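import Cfsg.Agent.H751.Val

/-!
# The 2-parts of the orders of `GL_n(q)` and `GU_n(q)` in all degrees (helper751)
-/

set_option autoImplicit false
set_option linter.unusedVariables false

namespace Cfsg.Agent.H751.Big

open Cfsg.Agent.H751

section Val

variable {q : ℕ}

theorem val_odd_sub (hq : Odd q) (h1 : 1 < q) {i : ℕ} (hi : Odd i) :
    padicValNat 2 (q ^ i - 1) = padicValNat 2 (q - 1) := by
  have h2 : (∑ k ∈ Finset.range i, q ^ k) * (q - 1) = q ^ i - 1 := by
    have h3 := geom_sum_mul_add (q - 1) i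
    have h4 : q - 1 + 1 = q := by omega
    rw [h4] at h3
    omega
  have h5 : Odd (∑ k ∈ Finset.range i, q ^ k) := by
    rw [Finset.odd_sum_iff_odd_card_odd]
    have h6 : (Finset.range i).filter (fun k => Odd (q ^ k)) = Finset.range i := by
      rw [Finset.filter_true_of_mem]
      exact fun k _ => hq.pow
    rw [h6, Finset.card_range]
    exact hi
  rw [← h2, val_mul (by rcases h5 with ⟨k, hk⟩; omega) (by omega), val_odd h5, zero_add]

theorem val_even_sub (hq : Odd q) (h1 : 1 < q) {j : ℕ} (hj : j ≠ 0) :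
    padicValNat 2 (q ^ (2 * j) - 1) = padicValNat 2 (q - 1) + padicValNat 2 (q + 1) + padicValNat 2 j := by
  have : Fact (Nat.Prime 2) := ⟨Nat.prime_two⟩
  have h2 := padicValNat.pow_two_sub_pow (x := q) (y := 1) h1 (by
    obtain ⟨k, rfl⟩ := hq
    omega) (by
    obtain ⟨k, rfl⟩ := hq
    omega) (n := 2 * j) (by omega) ⟨j, by ring⟩
  rw [one_pow, val_mul (by norm_num) hj, padicValNat_self] at h2
  omega

theorem val_odd_add (hq : Odd q) (h1 : 1 < q) {i : ℕ} (hi : Odd i) :
    padicValNat 2 (q ^ i + 1) = padicValNat 2 (q + 1) := by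
  have hi0 : i ≠ 0 := hi.pos.ne'
  have h2 := val_even_sub hq h1 hi0
  have h3 : q ^ (2 * i) - 1 = (q ^ i - 1) * (q ^ i + 1) := by
    have := Nat.sq_sub_sq (q ^ i) 1
    rw [one_pow, mul_comm, ← pow_mul, mul_comm i 2] at this
    exact this
  have h4 : 1 < q ^ i := Nat.one_lt_pow hi0 h1
  rw [h3, val_mul (by omega) (by omega), val_odd_sub hq h1 hi, val_odd hi] at h2
  omega

/-- The exponent of the 2-part. -/
def vv2 (n x y : ℕ) : ℕ := n * x + (n / 2) * y + padicValNat 2 (n / 2).factorial

theorem val_prod_gen {f : ℕ → ℕ} {x y : ℕ} (h0 : ∀ j, f j ≠ 0) (h1 : ∀ j, Odd (j + 1) → padicValNat 2 (f j) = x)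
    (h2 : ∀ j k, j + 1 = 2 * k → padicValNat 2 (f j) = x + y + padicValNat 2 k) (n : ℕ) :
    padicValNat 2 (∏ j ∈ Finset.range n, f j) = vv2 n x y := by
  induction n with
  | zero =>
    unfold vv2
    simp
  | succ n ih =>
    rw [Finset.prod_range_succ, val_mul (Finset.prod_ne_zero_iff.2 (fun j _ => h0 j)) (h0 n), ih]
    rcases Nat.even_or_odd (n + 1) with h | h
    · obtain ⟨k, hk⟩ := h
      have hk' : n + 1 = 2 * k := by omega
      rw [h2 n k hk']
      have e1 : (n + 1) / 2 = k := by omega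
      have e2 : n / 2 = k - 1 := by omega
      have e3 : 1 ≤ k := by omega
      obtain ⟨l, rfl⟩ := Nat.exists_eq_add_of_le' e3
      unfold vv2
      rw [e1, e2, Nat.add_sub_cancel, Nat.factorial_succ, val_mul (by omega) (Nat.factorial_ne_zero l)]
      ring
    · rw [h1 n h]
      have e1 : (n + 1) / 2 = n / 2 := by
        obtain ⟨k, hk⟩ := h
        omega
      unfold vv2
      rw [e1]
      ring

theorem val_prod2 (n : ℕ) (hq : Odd q) (h1 : 1 < q) :
    padicValNat 2 (∏ i : Fin n, (q ^ n - q ^ (i : ℕ))) = vv2 n (padicValNat 2 (q - 1)) (padicValNat 2 (q + 1)) := by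
  have h2 : ∏ i : Fin n, (q ^ n - q ^ (i : ℕ)) = (∏ j ∈ Finset.range n, q ^ j) * ∏ j ∈ Finset.range n, (q ^ (j + 1) - 1) := by
    rw [Finset.prod_range (fun i => q ^ i), Finset.prod_range (fun i => q ^ (i + 1) - 1)]
    have h3 : ∏ i : Fin n, (q ^ n - q ^ (i : ℕ)) = ∏ i : Fin n, (q ^ (i : ℕ) * (q ^ (n - i) - 1)) := by
      refine Finset.prod_congr rfl (fun i _ => ?_)
      rw [Nat.mul_sub, mul_one, ← pow_add]
      congr 2
      have := i.2
      omega
    rw [h3, Finset.prod_mul_distrib]
    congr 1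
    rw [← Equiv.prod_comp Fin.revPerm]
    refine Finset.prod_congr rfl (fun i _ => ?_)
    rw [Fin.revPerm_apply, Fin.val_rev]
    congr 2
    have := i.2
    omega
  have hne : ∀ j, q ^ (j + 1) - 1 ≠ 0 := by
    intro j
    have : 1 < q ^ (j + 1) := Nat.one_lt_pow (Nat.succ_ne_zero j) h1
    omega
  have hodd : Odd (∏ j ∈ Finset.range n, q ^ j) := by
    have : ∀ s : Finset ℕ, Odd (∏ j ∈ s, q ^ j) := by
      intro s
      induction s using Finset.induction_on with
      | empty => exact odd_one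
      | insert a s ha ih => rw [Finset.prod_insert ha]; exact (hq.pow).mul ih
    exact this _
  rw [h2, val_mul (by rcases hodd with ⟨k, hk⟩; omega) (Finset.prod_ne_zero_iff.2 (fun j _ => hne j)), val_odd hodd,
    zero_add]
  refine val_prod_gen hne (fun j hj => val_odd_sub hq h1 hj) (fun j k hk => ?_) n
  rw [hk]
  exact val_even_sub hq h1 (by omega)

/-- The 2-part of the order of `GL_n(q)`. -/
theorem val_card_GL2 {F : Type*} [Field F] [Fintype F] (hq : Odd (Fintype.card F)) (n : ℕ) :
    padicValNat 2 (Nat.card (Matrix.GeneralLinearGroup (Fin n) F)) =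
      vv2 n (padicValNat 2 (Fintype.card F - 1)) (padicValNat 2 (Fintype.card F + 1)) := by
  rw [Matrix.card_GL_field]
  exact val_prod2 n hq Fintype.one_lt_card

/-- The 2-part of the order of `GU_n(q)`. -/
theorem val_card_GU2 {F : Type*} [Field F] [Fintype F] {q : ℕ} (hF : Fintype.card F = q ^ 2) (hq : Odd q) (n : ℕ) :
    padicValNat 2 (Nat.card (Cfsg.GU n F q)) = vv2 n (padicValNat 2 (q + 1)) (padicValNat 2 (q - 1)) := by
  have h2 := Cfsg.Agent.LieClassical.GUOrder.two_le hF
  have hne : ∀ j, (if Even j then q ^ (j + 1) + 1 else q ^ (j + 1) - 1) ≠ 0 := by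
    intro i
    split_ifs
    · positivity
    · have : 1 < q ^ (i + 1) := Nat.one_lt_pow (Nat.succ_ne_zero i) (show 1 < q by omega)
      omega
  rw [Cfsg.Agent.S0277.result hF n, val_mul (by positivity) (Finset.prod_ne_zero_iff.2 (fun j _ => hne j)), val_odd (hq.pow),
    zero_add]
  refine val_prod_gen hne (fun j hj => ?_) (fun j k hk => ?_) n
  · have hj' : Even j := by
      rw [Nat.odd_add_one] at hj
      exact Nat.not_odd_iff_even.1 hj
    rw [if_pos hj']
    exact val_odd_add hq (by omega) hj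
  · have hj' : ¬ Even j := by
      rintro ⟨l, hl⟩
      omega
    rw [if_neg hj', hk, val_even_sub hq (by omega) (by omega)]
    ring

end Val

end Cfsg.Agent.H751.Big
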