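import Cfsg.Agent.H751.Big.Pack2
import Cfsg.Agent.H751.InstUni

/-!
# The data for `GL_n(q)`, `GU_n(q)` in all degrees (helper751)
-/

set_option autoImplicit false
set_option linter.unusedVariables false

namespace Cfsg.Agent.H751.Big

open Equiv Cfsg.Agent.H751 Cfsg.Agent.LieClassical

universe u

variable {O : Type*} [CommRing O] [IsDomain O] {L N : ℕ} {ζ : O} {M : Type*} [CommGroup M] {χ : M →* Oˣ}
  {m : ℕ} {Q : Subgroup (Perm (Fin m))} {κ : Perm (Fin m)} {hQ : ∀ σ ∈ Q, Commute σ κ} {r : ℕ}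

/-- A union of orbits of 2-power size. -/
def HasBlock (Q : Subgroup (Perm (Fin m))) (κ : Perm (Fin m)) : Prop :=
  ∃ (B : Finset (Fin m)) (k : ℕ), B.card = 2 ^ k ∧ (∀ i, κ i ∈ B ↔ i ∈ B) ∧ ∀ σ ∈ Q, ∀ i, σ i ∈ B ↔ i ∈ B

theorem det_block {F : Type*} [Field F] (B : Finset (Fin m)) (c : F) :
    (Matrix.diagonal (fun i : Fin m => if i ∈ B then c else 1)).det = c ^ B.card := by
  rw [Matrix.det_diagonal, Finset.prod_ite_mem, Finset.univ_inter, Finset.prod_const]

/-- The data for the general linear group. -/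
theorem exists_pk_lin2 {F : Type u} [Field F] [Fintype F] (h2 : (2 : F) ≠ 0) (hζ : IsPrimitiveRoot ζ (2 ^ L))
    (hO : ∀ (K : Type u) [Field K] (z : K), IsPrimitiveRoot z (2 ^ L) → ∃ φ : O →+* K, φ ζ = z)
    (hNL : N ≤ L) (hL : 2 ≤ L) (hχ : Function.Injective χ) (hM : ∀ t : M, t ^ 2 ^ N = 1) (hκ : κ * κ = 1)
    (hr : Fintype.card F ≡ r [MOD 2 ^ N]) (hε : κ = 1 ∨ Fintype.card F % 4 = 3) (hm1 : 1 ≤ m)
    [Finite (wGp M Q κ hQ r)] (hW : IsPGroup 2 (wGp M Q κ hQ r))
    (hcard : 2 ^ padicValNat 2 (Nat.card (Matrix.GeneralLinearGroup (Fin m) F)) ≤ Nat.card (wGp M Q κ hQ r))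
    (hB : HasBlock Q κ) :
    ∃ σ : wGp M Q κ hQ r →* Matrix.GeneralLinearGroup (Fin m) F,
      Pk2 L ζ (wRho χ Q κ hQ r) (fun w => IsScal (w : MonGp (Fin m) M))
        (MonoidHom.id (Matrix.GeneralLinearGroup (Fin m) F)) σ := by
  have : Nonempty (Fin m) := ⟨⟨0, by omega⟩⟩
  have hp : Fact (Nat.Prime 2) := ⟨Nat.prime_two⟩
  obtain ⟨τ, hreal, hinj, hdiag, hscal⟩ := exists_lin (Q := Q) (hQ := hQ) h2 hζ hO hNL hL hχ hM hκ hr hε
  refine ⟨τ, ⟨isSyl_of_card hinj hW hcard, hreal, ?_, ?_, ?_⟩⟩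
  · intro P a b' hab
    have hP : IsPGroup 2 P := hW.to_subgroup P
    exact exists_conj_of_charpoly hP h2 a b' hab
  · intro g hg
    obtain ⟨B, k, hBk, hB1, hB2⟩ := hB
    have h1 : Nat.Coprime (orderOf (Matrix.GeneralLinearGroup.det g)) 2 :=
      Nat.Coprime.coprime_dvd_left (orderOf_map_dvd _ g) hg
    obtain ⟨e, he⟩ := exists_root_two h1 k
    let c : F := (((Matrix.GeneralLinearGroup.det g ^ e)⁻¹ : Fˣ) : F)
    have hc0 : c ≠ 0 := Units.ne_zero _
    have hck : c ^ 2 ^ k = (((Matrix.GeneralLinearGroup.det g)⁻¹ : Fˣ) : F) := by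
      show ((((Matrix.GeneralLinearGroup.det g ^ e)⁻¹ : Fˣ) : F)) ^ 2 ^ k = _
      rw [← Units.val_pow_eq_pow_val, inv_pow, he]
    let d : Fin m → F := fun i => if i ∈ B then c else 1
    have hd : (Matrix.diagonal d).det = c ^ 2 ^ k := by rw [← hBk]; exact det_block B c
    let D : Matrix.GeneralLinearGroup (Fin m) F := Matrix.GeneralLinearGroup.mkOfDetNeZero (Matrix.diagonal d) (by
      rw [hd]; exact pow_ne_zero _ hc0)
    refine ⟨D, fun s => ?_, ?_⟩
    · apply Units.ext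
      refine hdiag d (fun i => ?_) (fun σ hσ i => ?_) s
      · show (if κ i ∈ B then c else 1) = (if i ∈ B then c else 1)
        by_cases h : i ∈ B
        · rw [if_pos h, if_pos ((hB1 i).2 h)]
        · rw [if_neg h, if_neg (fun h' => h ((hB1 i).1 h'))]
      · show (if σ i ∈ B then c else 1) = (if i ∈ B then c else 1)
        by_cases h : i ∈ B
        · rw [if_pos h, if_pos ((hB2 σ hσ i).2 h)]
        · rw [if_neg h, if_neg (fun h' => h ((hB2 σ hσ i).1 h'))]
    · rw [mem_kerDet]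
      show ((g : Matrix (Fin m) (Fin m) F) * Matrix.diagonal d).det = 1
      rw [Matrix.det_mul, hd, hck]
      show ((Matrix.GeneralLinearGroup.det g : Fˣ) : F) * (((Matrix.GeneralLinearGroup.det g)⁻¹ : Fˣ) : F) = 1
      exact Units.mul_inv _
  · intro w h
    rw [mem_center_slEquiv, Matrix.SpecialLinearGroup.mem_center_iff, ← hscal]
    constructor
    · rintro ⟨c, -, hc⟩
      exact ⟨c, hc.symm⟩
    · rintro ⟨c, hc⟩
      refine ⟨c, ?_, hc.symm⟩
      have h1 : (τ w : Matrix (Fin m) (Fin m) F).det = 1 := (mem_kerDet _ _).1 h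
      rw [hc, Matrix.scalar_apply, Matrix.det_diagonal, Finset.prod_const, Finset.card_univ] at h1
      exact h1

/-- The data for the general unitary group. -/
theorem exists_pk_uni2 {F : Type u} [Field F] [Fintype F] {q : ℕ} (hF : Fintype.card F = q ^ 2) (h2 : (2 : F) ≠ 0)
    (hζ : IsPrimitiveRoot ζ (2 ^ L))
    (hO : ∀ (K : Type u) [Field K] (z : K), IsPrimitiveRoot z (2 ^ L) → ∃ φ : O →+* K, φ ζ = z)
    (hNL : N ≤ L) (hχ : Function.Injective χ) (hM : ∀ t : M, t ^ 2 ^ N = 1) (hκ : κ * κ = 1)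
    (hr : 2 ^ N ∣ q + r) (hr2 : r * r ≡ 1 [MOD 2 ^ N]) (hm2 : 2 ≤ m) (hqo : Odd q)
    [Finite (wGp M Q κ hQ r)] (hW : IsPGroup 2 (wGp M Q κ hQ r))
    (hcard : 2 ^ padicValNat 2 (Nat.card (Cfsg.GU m F q)) ≤ Nat.card (wGp M Q κ hQ r))
    (hB : HasBlock Q κ) :
    ∃ σ : wGp M Q κ hQ r →* Cfsg.GU m F q,
      Pk2 L ζ (wRho χ Q κ hQ r) (fun w => IsScal (w : MonGp (Fin m) M))
        (Cfsg.GU m F q).subtype σ := by
  have : Nonempty (Fin m) := ⟨⟨0, by omega⟩⟩
  have hp : Fact (Nat.Prime 2) := ⟨Nat.prime_two⟩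
  have hfinG : Finite (Cfsg.GU m F q) := GUOrder.finite_GU m
  obtain ⟨τ, hreal, hinj, hadj, hdiag, hscal⟩ := exists_uni (Q := Q) (hQ := hQ) hF h2 hζ hO hNL hχ hM hκ hr hr2
  have hτG : ∀ w, τ w ∈ Cfsg.GU m F q := fun w => (mem_GU_iff_adj hF _).2 (hadj w)
  let σ : wGp M Q κ hQ r →* Cfsg.GU m F q := τ.codRestrict _ hτG
  have hσ : ∀ w, ((σ w : Cfsg.GU m F q) : Matrix.GeneralLinearGroup (Fin m) F) = τ w := fun w => rfl
  have hσinj : Function.Injective σ := fun a b hab => hinj (congrArg Subtype.val hab)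
  have hdetq : ∀ k : Cfsg.GU m F q, ((k : Matrix.GeneralLinearGroup (Fin m) F) : Matrix (Fin m) (Fin m) F).det ^ (q + 1) = 1 :=
    fun k => GUOrder.det_mul_frob_det hF _ k.2
  refine ⟨σ, ⟨isSyl_of_card hσinj hW hcard, hreal, ?_, ?_, ?_⟩⟩
  · intro P a b' hab
    have hP : IsPGroup 2 P := hW.to_subgroup P
    obtain ⟨g, hg⟩ := exists_conj_of_charpoly hP h2 ((Cfsg.GU m F q).subtype.comp a) ((Cfsg.GU m F q).subtype.comp b') hab
    obtain ⟨u, hu, hu'⟩ := exists_unitary_of_conj (GUOrder.frob hF) h2 (exists_frob_ne hF) (GUOrder.frob_frob hF)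
      ((Cfsg.GU m F q).subtype.comp a) ((Cfsg.GU m F q).subtype.comp b')
      (fun x => (mem_GU_iff_adj hF _).1 (a x).2) (fun x => (mem_GU_iff_adj hF _).1 (b' x).2) g hg
    exact ⟨⟨u, (mem_GU_iff_adj hF _).2 hu⟩, fun x => Subtype.ext (hu' x)⟩
  · intro g hg
    obtain ⟨B, k, hBk, hB1, hB2⟩ := hB
    let g' : Matrix.GeneralLinearGroup (Fin m) F := (g : Matrix.GeneralLinearGroup (Fin m) F)
    have h1 : Nat.Coprime (orderOf (Matrix.GeneralLinearGroup.det g')) 2 :=
      Nat.Coprime.coprime_dvd_left ((orderOf_map_dvd (Matrix.GeneralLinearGroup.det.comp (Cfsg.GU m F q).subtype) g)) hg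
    obtain ⟨e, he⟩ := exists_root_two h1 k
    let c : F := (((Matrix.GeneralLinearGroup.det g' ^ e)⁻¹ : Fˣ) : F)
    have hc0 : c ≠ 0 := Units.ne_zero _
    have hcq : c ^ (q + 1) = 1 := by
      show ((((Matrix.GeneralLinearGroup.det g' ^ e)⁻¹ : Fˣ) : F)) ^ (q + 1) = 1
      rw [← Units.val_pow_eq_pow_val, inv_pow, ← pow_mul, mul_comm e, pow_mul]
      have h3 : Matrix.GeneralLinearGroup.det g' ^ (q + 1) = 1 := by
        apply Units.ext
        rw [Units.val_pow_eq_pow_val]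
        exact hdetq g
      rw [h3, one_pow, inv_one, Units.val_one]
    have hck : c ^ 2 ^ k = (((Matrix.GeneralLinearGroup.det g')⁻¹ : Fˣ) : F) := by
      show ((((Matrix.GeneralLinearGroup.det g' ^ e)⁻¹ : Fˣ) : F)) ^ 2 ^ k = _
      rw [← Units.val_pow_eq_pow_val, inv_pow, he]
    let d : Fin m → F := fun i => if i ∈ B then c else 1
    have hd : (Matrix.diagonal d).det = c ^ 2 ^ k := by rw [← hBk]; exact det_block B c
    let D : Matrix.GeneralLinearGroup (Fin m) F := Matrix.GeneralLinearGroup.mkOfDetNeZero (Matrix.diagonal d) (by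
      rw [hd]; exact pow_ne_zero _ hc0)
    have hDG : D ∈ Cfsg.GU m F q := by
      rw [mem_GU_iff_adj hF]
      show adj (GUOrder.frob hF) (Matrix.diagonal d) * Matrix.diagonal d = 1
      have h1 : adj (GUOrder.frob hF) (Matrix.diagonal d) = Matrix.diagonal (fun i => d i ^ q) := by
        ext i j
        rw [adj_apply, Matrix.diagonal_apply, Matrix.diagonal_apply]
        by_cases h : i = j
        · subst h
          rw [if_pos rfl, if_pos rfl]
          rfl
        · rw [if_neg h, if_neg (fun h' => h h'.symm), map_zero]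
      rw [h1, Matrix.diagonal_mul_diagonal, ← Matrix.diagonal_one]
      congr 1
      funext i
      show (if i ∈ B then c else 1) ^ q * (if i ∈ B then c else 1) = 1
      split_ifs
      · rw [← pow_succ, hcq]
      · rw [one_pow, one_mul]
    refine ⟨⟨D, hDG⟩, fun s => ?_, ?_⟩
    · apply Subtype.ext
      apply Units.ext
      refine hdiag d (fun i => ?_) (fun σ hσ i => ?_) s
      · show (if κ i ∈ B then c else 1) = (if i ∈ B then c else 1)
        by_cases h : i ∈ B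
        · rw [if_pos h, if_pos ((hB1 i).2 h)]
        · rw [if_neg h, if_neg (fun h' => h ((hB1 i).1 h'))]
      · show (if σ i ∈ B then c else 1) = (if i ∈ B then c else 1)
        by_cases h : i ∈ B
        · rw [if_pos h, if_pos ((hB2 σ hσ i).2 h)]
        · rw [if_neg h, if_neg (fun h' => h ((hB2 σ hσ i).1 h'))]
    · rw [mem_kerDet]
      show ((g' : Matrix (Fin m) (Fin m) F) * Matrix.diagonal d).det = 1
      rw [Matrix.det_mul, hd, hck]
      show ((Matrix.GeneralLinearGroup.det g' : Fˣ) : F) * (((Matrix.GeneralLinearGroup.det g')⁻¹ : Fˣ) : F) = 1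
      exact Units.mul_inv _
  · intro w h
    have hdet : (τ w : Matrix (Fin m) (Fin m) F).det = 1 := (mem_kerDet _ _).1 h
    rw [mem_center_suEquiv, mem_center_SU_iff_two_le hF hm2 hqo, ← hscal]
    constructor
    · rintro ⟨c, hcn, hcq, hc⟩
      refine ⟨c, ?_⟩
      have h1 := congrArg (fun X : Cfsg.SU m F q => ((X : Matrix.SpecialLinearGroup (Fin m) F) : Matrix (Fin m) (Fin m) F)) hc
      rw [SUBasic.coe_suScalar] at h1
      exact h1.trans rfl
    · rintro ⟨c, hc⟩
      have hcn : c ^ m = 1 := by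
        rw [hc, Matrix.scalar_apply, Matrix.det_diagonal, Finset.prod_const, Finset.card_univ, Fintype.card_fin] at hdet
        exact hdet
      have hcq : c ^ (q + 1) = 1 := by
        have h1 := hadj w
        rw [hc, adj_scalar, ← map_mul] at h1
        have i0 : Fin m := ⟨0, by omega⟩
        have h3 := congrFun (congrFun h1 i0) i0
        rw [Matrix.scalar_apply, Matrix.diagonal_apply, if_pos rfl, Matrix.one_apply, if_pos rfl,
          GUOrder.frob_apply, ← pow_succ] at h3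
        exact h3
      refine ⟨c, hcn, hcq, ?_⟩
      apply Subtype.ext
      apply Subtype.ext
      rw [SUBasic.coe_suScalar]
      exact hc.trans rfl

end Cfsg.Agent.H751.Big
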