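import Cfsg.Agent.H751.Shape
import Cfsg.Agent.H751.Big.Inst2
import Cfsg.Agent.H751.Val

/-!
# The order of the monomial 2-group in all degrees (helper751)
-/

set_option autoImplicit false

namespace Cfsg.Agent.H751.Big

open Equiv Cfsg.Agent.H751

section Rep

variable {n m : ℕ} {κ : Perm (Fin n)}

theorem apply_apply_of_sq (hκ : κ * κ = 1) (i : Fin n) : κ (κ i) = i := congrArg (fun g : Perm (Fin n) => g i) hκ

/-- The number of transpositions. -/
theorem card_rep (hκ : κ * κ = 1) (hs : κ.support.card = 2 * m) :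
    Fintype.card {i : Fin n // i < κ i} = m ∧ Fintype.card {i : Fin n // κ i = i} = n - 2 * m := by
  have hap := apply_apply_of_sq hκ
  let R : Finset (Fin n) := Finset.univ.filter (fun i => i < κ i)
  let R' : Finset (Fin n) := Finset.univ.filter (fun i => κ i < i)
  have h1 : R.image κ = R' := by
    ext i
    rw [Finset.mem_image, Finset.mem_filter]
    constructor
    · rintro ⟨j, hj, rfl⟩
      rw [Finset.mem_filter] at hj
      exact ⟨Finset.mem_univ _, by rw [hap]; exact hj.2⟩
    · rintro ⟨-, hi⟩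
      exact ⟨κ i, Finset.mem_filter.2 ⟨Finset.mem_univ _, by rw [hap]; exact hi⟩, hap i⟩
  have h2 : R'.card = R.card := by rw [← h1, Finset.card_image_of_injective _ κ.injective]
  have h3 : κ.support = R ∪ R' := by
    ext i
    rw [Perm.mem_support, Finset.mem_union, Finset.mem_filter, Finset.mem_filter]
    constructor
    · intro h
      rcases lt_or_gt_of_ne h with h | h
      · exact Or.inr ⟨Finset.mem_univ _, h⟩
      · exact Or.inl ⟨Finset.mem_univ _, h⟩
    · rintro (⟨-, h⟩ | ⟨-, h⟩)
      · exact h.ne'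
      · exact h.ne
  have h4 : Disjoint R R' := by
    rw [Finset.disjoint_left]
    intro i hi hi'
    rw [Finset.mem_filter] at hi hi'
    exact absurd hi.2 (not_lt_of_gt hi'.2)
  have h5 : R.card = m := by
    rw [h3, Finset.card_union_of_disjoint h4, h2] at hs
    omega
  refine ⟨by rw [Fintype.card_subtype]; exact h5, ?_⟩
  rw [Fintype.card_subtype]
  have h6 : (Finset.univ.filter (fun i : Fin n => κ i = i)) = κ.supportᶜ := by
    ext i
    rw [Finset.mem_compl, Perm.mem_support, Finset.mem_filter, not_not]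
    exact ⟨fun h => h.2, fun h => ⟨Finset.mem_univ _, h⟩⟩
  rw [h6, Finset.card_compl, Fintype.card_fin, hs]

/-- The lower bound for the torus. -/
theorem card_torus (hκ : κ * κ = 1) (hs : κ.support.card = 2 * m) {M : Type} [CommGroup M] [Finite M] {e : M} {r : ℕ}
    (he : e ≠ 1) (he2 : e ^ 2 = 1) (hr : Odd r) (ha : ∀ a : M, a ^ (r * r) = a) :
    Nat.card M ^ m * 2 ^ (n - 2 * m) ≤ Nat.card {t : Fin n → M // ∀ i, t (κ i) = t i ^ r} := by
  have hap := apply_apply_of_sq hκ
  obtain ⟨c1, c2⟩ := card_rep hκ hs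
  have her : e ^ r = e := by
    obtain ⟨k, rfl⟩ := hr
    rw [pow_succ, pow_mul, he2, one_pow, one_mul]
  let A : ({i : Fin n // i < κ i} → M) → Fin n → M := fun a i => if h : i < κ i then a ⟨i, h⟩ else 1
  let B : ({i : Fin n // κ i = i} → Bool) → Fin n → M := fun s i => if h : κ i = i then (if s ⟨i, h⟩ then e else 1) else 1
  have hB : ∀ s i, B s i ^ r = B s i := by
    intro s i
    show (if h : κ i = i then (if s ⟨i, h⟩ then e else 1) else 1) ^ r = _
    by_cases h : κ i = i
    · rw [dif_pos h]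
      show (if s ⟨i, h⟩ then e else 1) ^ r = (if h : κ i = i then (if s ⟨i, h⟩ then e else 1) else 1)
      rw [dif_pos h]
      split_ifs
      · exact her
      · exact one_pow r
    · rw [dif_neg h, one_pow]
      show 1 = (if h : κ i = i then (if s ⟨i, h⟩ then e else 1) else 1)
      rw [dif_neg h]
  let T : ({i : Fin n // i < κ i} → M) → ({i : Fin n // κ i = i} → Bool) → Fin n → M := fun a s i =>
    if i < κ i then A a i else if κ i < i then A a (κ i) ^ r else B s i
  have hT : ∀ a s i, T a s (κ i) = T a s i ^ r := by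
    intro a s i
    rcases lt_trichotomy i (κ i) with h | h | h
    · have h' : ¬ κ i < κ (κ i) := by rw [hap]; exact not_lt_of_gt h
      have h'' : κ (κ i) < κ i := by rw [hap]; exact h
      show (if κ i < κ (κ i) then A a (κ i) else if κ (κ i) < κ i then A a (κ (κ i)) ^ r else B s (κ i)) =
        (if i < κ i then A a i else if κ i < i then A a (κ i) ^ r else B s i) ^ r
      rw [if_neg h', if_pos h'', if_pos h, hap]
    · show T a s (κ i) = (if i < κ i then A a i else if κ i < i then A a (κ i) ^ r else B s i) ^ r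
      rw [if_neg (by rw [← h]; exact lt_irrefl _), if_neg (by rw [← h]; exact lt_irrefl _), hB, ← h]
      show (if i < κ i then A a i else if κ i < i then A a (κ i) ^ r else B s i) = B s i
      rw [if_neg (by rw [← h]; exact lt_irrefl _), if_neg (by rw [← h]; exact lt_irrefl _)]
    · have h' : κ i < κ (κ i) := by rw [hap]; exact h
      have h'' : ¬ i < κ i := not_lt_of_gt h
      show (if κ i < κ (κ i) then A a (κ i) else if κ (κ i) < κ i then A a (κ (κ i)) ^ r else B s (κ i)) =
        (if i < κ i then A a i else if κ i < i then A a (κ i) ^ r else B s i) ^ r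
      rw [if_pos h', if_neg h'', if_pos h, ← pow_mul, ha]
  let f : ({i : Fin n // i < κ i} → M) × ({i : Fin n // κ i = i} → Bool) →
      {t : Fin n → M // ∀ i, t (κ i) = t i ^ r} := fun p => ⟨T p.1 p.2, hT p.1 p.2⟩
  have hf : Function.Injective f := by
    rintro ⟨a, s⟩ ⟨a', s'⟩ h
    have h1 : T a s = T a' s' := congrArg Subtype.val h
    have h2 : a = a' := by
      funext ⟨i, hi⟩
      have h3 : T a s i = T a' s' i := congrFun h1 i
      have h4 : ∀ b t, T b t i = b ⟨i, hi⟩ := by
        intro b t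
        show (if i < κ i then A b i else _) = _
        rw [if_pos hi]
        show (if h : i < κ i then b ⟨i, h⟩ else 1) = _
        rw [dif_pos hi]
      rw [h4, h4] at h3
      exact h3
    have h5 : s = s' := by
      funext ⟨i, hi⟩
      have h3 : T a s i = T a' s' i := congrFun h1 i
      have h4 : ∀ b t, T b t i = if t ⟨i, hi⟩ then e else 1 := by
        intro b t
        show (if i < κ i then A b i else if κ i < i then A b (κ i) ^ r else B t i) = _
        rw [if_neg (by rw [hi]; exact lt_irrefl _), if_neg (by rw [hi]; exact lt_irrefl _)]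
        show (if h : κ i = i then (if t ⟨i, h⟩ then e else 1) else 1) = _
        rw [dif_pos hi]
      rw [h4, h4] at h3
      cases h6 : s ⟨i, hi⟩ <;> cases h7 : s' ⟨i, hi⟩
      · rfl
      · rw [h6, h7] at h3
        simp at h3
        exact absurd h3.symm he
      · rw [h6, h7] at h3
        simp at h3
        exact absurd h3 he
      · rfl
    rw [h2, h5]
  have h4 := Nat.card_le_card_of_injective f hf
  rw [Nat.card_prod, Nat.card_fun, Nat.card_fun, Nat.card_eq_fintype_card (α := {i : Fin n // i < κ i}), c1,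
    Nat.card_eq_fintype_card (α := {i : Fin n // κ i = i}), c2, Nat.card_eq_fintype_card (α := Bool),
    Fintype.card_bool] at h4
  exact h4

end Rep

/-- A block for a 2-group of permutations. -/
theorem hasBlock_of_isPGroup {n : ℕ} (hn : 1 ≤ n) {Q : Subgroup (Perm (Fin n))} {κ : Perm (Fin n)}
    (hQ : IsPGroup 2 Q) (hκ : κ ∈ Q) : HasBlock Q κ := by
  classical
  have hp : Fact (Nat.Prime 2) := ⟨Nat.prime_two⟩
  let i0 : Fin n := ⟨0, by omega⟩
  obtain ⟨k, hk⟩ := hQ.card_orbit i0
  have hmem : ∀ σ ∈ Q, ∀ i, σ i ∈ MulAction.orbit Q i0 ↔ i ∈ MulAction.orbit Q i0 := by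
    intro σ hσ i
    constructor
    · intro h
      have h1 := MulAction.mem_orbit_of_mem_orbit (⟨σ, hσ⟩ : Q)⁻¹ h
      have h2 : (⟨σ, hσ⟩ : Q)⁻¹ • σ i = i := inv_smul_smul (⟨σ, hσ⟩ : Q) i
      rwa [h2] at h1
    · intro h
      exact MulAction.mem_orbit_of_mem_orbit (⟨σ, hσ⟩ : Q) h
  refine ⟨(MulAction.orbit Q i0).toFinset, k, ?_, ?_, ?_⟩
  · rw [← hk, Set.toFinset_card, Nat.card_eq_fintype_card]
  · intro i
    rw [Set.mem_toFinset, Set.mem_toFinset]
    exact hmem κ hκ i
  · intro σ hσ i
    rw [Set.mem_toFinset, Set.mem_toFinset]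
    exact hmem σ hσ i

/-- The permutations. -/
theorem exists_shape2 {n : ℕ} (hn : 2 ≤ n) : ∃ (κ : Perm (Fin n)) (Q : Subgroup (Perm (Fin n))), κ * κ = 1 ∧
    κ.support.card = 2 * (n / 2) ∧ κ ∈ Q ∧ (∀ σ ∈ Q, Commute σ κ) ∧ IsPGroup 2 Q ∧
    Nat.card Q = 2 ^ (n / 2 + padicValNat 2 (n / 2).factorial) := by
  have hp : Fact (Nat.Prime 2) := ⟨Nat.prime_two⟩
  obtain ⟨κ, hκ⟩ := (Perm.exists_with_cycleType_iff (Fin n) (m := Multiset.replicate (n / 2) 2)).2
    ⟨by rw [Multiset.sum_replicate, Fintype.card_fin, smul_eq_mul]; omega, fun a ha => by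
      rw [Multiset.eq_of_mem_replicate ha]⟩
  have hsum : κ.support.card = 2 * (n / 2) := by
    rw [← Perm.sum_cycleType, hκ, Multiset.sum_replicate, smul_eq_mul, mul_comm]
  have hord : κ ^ 2 = 1 := by
    rw [← orderOf_dvd_iff_pow_eq_one, ← Perm.lcm_cycleType, Multiset.lcm_dvd, hκ]
    intro b hb
    rw [Multiset.eq_of_mem_replicate hb]
  let C := Subgroup.centralizer ({κ} : Set (Perm (Fin n)))
  have hκC : κ ∈ C := Subgroup.mem_centralizer_singleton_iff.2 rfl
  have hz : IsPGroup 2 (Subgroup.zpowers (⟨κ, hκC⟩ : C)) := by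
    rintro ⟨_, k, rfl⟩
    refine ⟨1, Subtype.ext (Subtype.ext ?_)⟩
    show (κ ^ k) ^ 2 ^ 1 = 1
    rw [pow_one, ← zpow_natCast, ← zpow_mul, mul_comm, zpow_mul, zpow_natCast, hord, one_zpow]
  obtain ⟨R, hR⟩ := hz.exists_le_sylow
  refine ⟨κ, (R : Subgroup C).map C.subtype, by rw [← sq, hord], hsum,
    ⟨⟨κ, hκC⟩, hR (Subgroup.mem_zpowers _), rfl⟩, ?_, R.isPGroup'.map _, ?_⟩
  · rintro _ ⟨σ, -, rfl⟩
    exact Subgroup.mem_centralizer_singleton_iff.1 σ.2
  · rw [Subgroup.card_map_of_injective C.subtype_injective, R.card_eq_multiplicity]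
    have h1 : Nat.card C = 2 ^ (n / 2) * (n / 2).factorial := by
      show Nat.card (Subgroup.centralizer ({κ} : Set (Perm (Fin n)))) = _
      rw [Perm.nat_card_centralizer, hκ, Multiset.sum_replicate, Multiset.prod_replicate, Fintype.card_fin, smul_eq_mul]
      have h2 : (n - n / 2 * 2).factorial = 1 := by
        have : n - n / 2 * 2 = 0 ∨ n - n / 2 * 2 = 1 := by omega
        rcases this with h | h <;> rw [h] <;> rfl
      have h3 : (Multiset.replicate (n / 2) 2).toFinset = {2} := by
        rw [Multiset.toFinset_replicate, if_neg (by omega)]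
      rw [h2, h3, Finset.prod_singleton, Multiset.count_replicate_self, one_mul]
    rw [h1, Nat.factorization_def _ Nat.prime_two, val_mul (by positivity) (Nat.factorial_ne_zero _),
      padicValNat.prime_pow]

end Cfsg.Agent.H751.Big
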