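import Cfsg.Agent.H751.Dat
import Cfsg.Agent.H751.Big.Shape2
import Cfsg.Agent.H751.Big.Val2

/-!
# `PSL_n(q)` and `PSU_n(q)` with the same 2-parts have the same 2-fusion, all degrees (helper751)
-/

set_option autoImplicit false

namespace Cfsg.Agent.H751.Big

open Equiv Cfsg.Agent.H751

universe u v

/-- The data of the common Sylow 2-subgroup. -/
structure Dat2 (n x y : ℕ) where
  /-- the exponents -/
  L : ℕ
  /-- the exponent of the entries -/
  N : ℕ
  /-- the exponent of the permutations -/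
  E : ℕ
  /-- the twist -/
  r : ℕ
  /-- the permutations -/
  Q : Subgroup (Perm (Fin n))
  /-- the twist -/
  κ : Perm (Fin n)
  hQ : ∀ σ ∈ Q, Commute σ κ
  hL : L = N + E
  hL2 : 2 ≤ L
  hκ : κ * κ = 1
  hr2 : r * r ≡ 1 [MOD 2 ^ N]
  hE : ∀ σ ∈ Q, σ ^ 2 ^ E = 1
  hlin : ∀ q, Odd q → padicValNat 2 (q - 1) = x → padicValNat 2 (q + 1) = y → q ≡ r [MOD 2 ^ N] ∧ (κ = 1 ∨ q % 4 = 3)
  huni : ∀ q, Odd q → padicValNat 2 (q + 1) = x → padicValNat 2 (q - 1) = y → 2 ^ N ∣ q + r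
  hcard : 2 ^ vv2 n x y ≤ Nat.card (wGp (Mu L N) Q κ hQ r)
  hfin : Finite (wGp (Mu L N) Q κ hQ r)
  hB : HasBlock Q κ

theorem wGp_pow_eq_one2 {n : Type*} {Q : Subgroup (Perm n)} {κ : Perm n}
    {hQ : ∀ σ ∈ Q, Commute σ κ} {r L N E : ℕ} {M : Type*} [CommGroup M] (hL : L = N + E) (hM : ∀ t : M, t ^ 2 ^ N = 1)
    (hE : ∀ σ ∈ Q, σ ^ 2 ^ E = 1) (w : wGp M Q κ hQ r) : w ^ 2 ^ L = 1 := by
  apply Subtype.ext
  have h1 : ((w : MonGp n M) ^ 2 ^ E).right = 1 := by
    have h2 : ((w : MonGp n M) ^ 2 ^ E).right = (w : MonGp n M).right ^ 2 ^ E := by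
      rw [← SemidirectProduct.rightHom_eq_right, map_pow]
    rw [h2, hE _ w.2.1]
  show (w : MonGp n M) ^ 2 ^ L = 1
  rw [hL, pow_add, mul_comm, pow_mul]
  obtain ⟨h5, h6⟩ := monGp_pow_of_right h1 (2 ^ N)
  refine SemidirectProduct.ext ?_ h5
  rw [h6]
  funext i
  exact hM _

theorem exists_dat2 {n x y : ℕ} (hn : 2 ≤ n) (hxy : (2 ≤ x ∧ y = 1) ∨ (x = 1 ∧ 2 ≤ y)) :
    Nonempty (Dat2 n x y) := by
  obtain ⟨κ0, Q, hκ0, hsupp, hκQ, hQ, hQ2, hQcard⟩ := exists_shape2 hn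
  set E := n / 2 + padicValNat 2 (n / 2).factorial with hEdef
  have hE : ∀ σ ∈ Q, σ ^ 2 ^ E = 1 := by
    intro σ hσ
    have h1 : (⟨σ, hσ⟩ : Q) ^ Nat.card Q = 1 := pow_card_eq_one'
    rw [hQcard] at h1
    exact congrArg Subtype.val h1
  have hE1 : 1 ≤ E := by omega
  have hfin : ∀ (L N : ℕ) (Q : Subgroup (Perm (Fin n))) (κ : Perm (Fin n)) (hQ : ∀ σ ∈ Q, Commute σ κ) (r : ℕ),
      Finite (wGp (Mu L N) Q κ hQ r) := by
    intro L N Q κ hQ r
    have := finite_Mu L N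
    exact Finite.of_equiv _ wEquiv.symm
  rcases hxy with ⟨hx, rfl⟩ | ⟨rfl, hy⟩
  · -- type I
    refine ⟨{ L := x + E, N := x, E := E, r := 1, Q := Q, κ := 1
              hQ := fun σ _ => Commute.one_right σ
              hL := rfl, hL2 := by omega, hκ := one_mul 1, hr2 := rfl, hE := hE, hlin := ?_, huni := ?_
              hcard := ?_, hfin := hfin _ _ _ _ _ _, hB := hasBlock_of_isPGroup (by omega) hQ2 Q.one_mem }⟩
    · intro q hq h1 _
      refine ⟨?_, Or.inl rfl⟩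
      have h2 := dvd_of_val h1
      have h3 : 1 ≤ q := hq.pos
      exact ((Nat.modEq_iff_dvd' h3).2 h2).symm
    · intro q hq h1 _
      exact dvd_of_val h1
    · rw [card_wGp, hQcard]
      have := finite_Mu (x + E) x
      rw [card_torus_one, card_Mu (by omega), ← pow_mul, ← pow_add]
      refine Nat.pow_le_pow_right (by norm_num) ?_
      unfold vv2
      rw [mul_comm x n]
      omega
  · -- type II
    have h2y : 2 ≤ 2 ^ y := by
      calc 2 = 2 ^ 1 := (pow_one 2).symm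
        _ ≤ 2 ^ y := Nat.pow_le_pow_right (by norm_num) (by omega)
    have hr2 : (2 ^ y - 1) * (2 ^ y - 1) ≡ 1 [MOD 2 ^ (y + 1)] := by
      obtain ⟨k, rfl⟩ := Nat.exists_eq_add_of_le hy
      have e1 : (2 ^ (2 + k) - 1) * (2 ^ (2 + k) - 1) = 1 + 2 ^ (2 + k + 1) * (2 ^ (1 + k) - 1) := by
        have h5 : 1 ≤ 2 ^ (1 + k) := Nat.one_le_two_pow
        obtain ⟨c, hc⟩ := Nat.exists_eq_add_of_le h5
        have h6 : 2 ^ (2 + k) = 2 * (1 + c) := by rw [← hc]; ring
        have h7 : 2 ^ (2 + k + 1) = 4 * (1 + c) := by rw [pow_succ, h6]; ring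
        rw [hc, h6, h7]
        have e2 : 2 * (1 + c) - 1 = 1 + 2 * c := by omega
        have e3 : 1 + c - 1 = c := by omega
        rw [e2, e3]
        ring
      rw [e1]
      exact (Nat.modEq_iff_dvd' (by omega)).2 ⟨2 ^ (1 + k) - 1, by omega⟩ |>.symm
    refine ⟨{ L := y + 1 + E, N := y + 1, E := E, r := 2 ^ y - 1, Q := Q, κ := κ0
              hQ := hQ
              hL := rfl, hL2 := by omega, hκ := hκ0, hr2 := hr2, hE := hE, hlin := ?_, huni := ?_
              hcard := ?_, hfin := hfin _ _ _ _ _ _, hB := hasBlock_of_isPGroup (by omega) hQ2 hκQ }⟩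
    · intro q hq _ h1
      obtain ⟨c, hc, hqc⟩ := exists_odd_of_val (by omega) h1
      obtain ⟨d, rfl⟩ := hc
      constructor
      · have e1 : q = 2 ^ y - 1 + 2 ^ (y + 1) * d := by
          have e2 : 2 ^ y * (2 * d + 1) = 2 ^ (y + 1) * d + 2 ^ y := by ring
          rw [e2] at hqc
          omega
        rw [e1]
        exact (Nat.modEq_iff_dvd' (by omega)).2 ⟨d, by omega⟩ |>.symm
      · right
        obtain ⟨k, rfl⟩ := Nat.exists_eq_add_of_le hy
        have e2 : 2 ^ (2 + k) * (2 * d + 1) = 4 * (2 ^ k * (2 * d + 1)) := by ring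
        rw [e2] at hqc
        omega
    · intro q hq _ h1
      have hq1 : q ≠ 1 := by
        rintro rfl
        rw [Nat.sub_self, padicValNat_zero_right] at h1
        omega
      have hq0 : 1 ≤ q := hq.pos
      obtain ⟨c, hc, hqc⟩ := exists_odd_of_val (by omega) h1
      obtain ⟨d, rfl⟩ := hc
      refine ⟨d + 1, ?_⟩
      have e2 : 2 ^ y * (2 * d + 1) = 2 ^ (y + 1) * d + 2 ^ y := by ring
      have e3 : 2 ^ (y + 1) * (d + 1) = 2 ^ (y + 1) * d + 2 * 2 ^ y := by ring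
      rw [e2] at hqc
      rw [e3]
      omega
    · rw [card_wGp, hQcard]
      have := finite_Mu (y + 1 + E) (y + 1)
      obtain ⟨e, he1, he2⟩ := exists_mu_neg (L := y + 1 + E) (N := y + 1) (by omega)
      have h5 := card_torus hκ0 hsupp (M := Mu (y + 1 + E) (y + 1)) (e := e) (r := 2 ^ y - 1) he1 he2 (by
        refine ⟨2 ^ (y - 1) - 1, ?_⟩
        obtain ⟨k, rfl⟩ := Nat.exists_eq_add_of_le hy
        have e1 : 2 + k - 1 = k + 1 := by omega
        have e2 : 2 ^ (2 + k) = 2 * 2 ^ (k + 1) := by ring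
        have e3 : 1 ≤ 2 ^ (k + 1) := Nat.one_le_two_pow
        rw [e1, e2]
        omega) (fun a => by
        have := pow_eq_pow_of_modEq hr2 (mu_pow a)
        rwa [pow_one] at this)
      refine le_trans ?_ (Nat.mul_le_mul_right _ h5)
      rw [card_Mu (by omega), ← pow_mul, ← pow_add, ← pow_add]
      refine Nat.pow_le_pow_right (by norm_num) ?_
      unfold vv2
      have e4 : (y + 1) * (n / 2) = n / 2 * y + n / 2 := by ring
      rw [e4]
      omega

section Main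

variable {n x y : ℕ}

theorem Dat2.pow_eq_one (D : Dat2 n x y) (w : wGp (Mu D.L D.N) D.Q D.κ D.hQ D.r) : w ^ 2 ^ D.L = 1 :=
  wGp_pow_eq_one2 D.hL (fun t => mu_pow t) D.hE w

/-- The reference Sylow 2-subgroup in the general linear group. -/
theorem Dat2.exists_pk_lin (D : Dat2 n x y) (hn : 2 ≤ n) {F : Type u} [Field F] [Fintype F]
    (hq : Odd (Fintype.card F)) (hx : padicValNat 2 (Fintype.card F - 1) = x)
    (hy : padicValNat 2 (Fintype.card F + 1) = y) :
    ∃ σ : wGp (Mu D.L D.N) D.Q D.κ D.hQ D.r →* Matrix.GeneralLinearGroup (Fin n) F,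
      Pk2 D.L (cycRoot D.L) (wRho (rootsOfUnity (2 ^ D.N) (CycRing D.L)).subtype D.Q D.κ D.hQ D.r)
        (fun w => IsScal (w : MonGp (Fin n) (Mu D.L D.N)))
        (MonoidHom.id (Matrix.GeneralLinearGroup (Fin n) F)) σ := by
  have := cycRing_isDomain D.L
  have := D.hfin
  obtain ⟨h1, h2⟩ := D.hlin _ hq hx hy
  have hL := D.hL
  exact exists_pk_lin2 (two_ne_zero_of_odd hq) (cycRoot_spec D.L) (fun K _ z hz => exists_cycRing_hom D.L hz)
    (by omega) D.hL2 (Subgroup.subtype_injective _) (fun t => mu_pow t) D.hκ h1 h2 (by omega)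
    (fun w => ⟨D.L, D.pow_eq_one w⟩) (by rw [val_card_GL2 hq n, hx, hy]; exact D.hcard) D.hB

/-- The reference Sylow 2-subgroup in the general unitary group. -/
theorem Dat2.exists_pk_uni (D : Dat2 n x y) (hn : 2 ≤ n) {F : Type u} [Field F] [Fintype F] {q : ℕ}
    (hF : Fintype.card F = q ^ 2) (hq : Odd q) (hx : padicValNat 2 (q + 1) = x)
    (hy : padicValNat 2 (q - 1) = y) :
    ∃ σ : wGp (Mu D.L D.N) D.Q D.κ D.hQ D.r →* Cfsg.GU n F q,
      Pk2 D.L (cycRoot D.L) (wRho (rootsOfUnity (2 ^ D.N) (CycRing D.L)).subtype D.Q D.κ D.hQ D.r)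
        (fun w => IsScal (w : MonGp (Fin n) (Mu D.L D.N)))
        (Cfsg.GU n F q).subtype σ := by
  have := cycRing_isDomain D.L
  have := D.hfin
  have hL := D.hL
  have hqF : Odd (Fintype.card F) := by rw [hF]; exact hq.pow
  exact exists_pk_uni2 hF (two_ne_zero_of_odd hqF) (cycRoot_spec D.L) (fun K _ z hz => exists_cycRing_hom D.L hz)
    (by omega) (Subgroup.subtype_injective _) (fun t => mu_pow t) D.hκ (D.huni q hq hx hy) D.hr2 hn hq
    (fun w => ⟨D.L, D.pow_eq_one w⟩) (by rw [val_card_GU2 hF hq n, hx, hy]; exact D.hcard) D.hB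

/-- `PSL_n(q')` and `PSL_n(q)`. -/
theorem fusTo_lin_lin2 (hn : 2 ≤ n) {F : Type u} [Field F] [Fintype F] {F' : Type v} [Field F'] [Fintype F']
    (hq : Odd (Fintype.card F)) (hq' : Odd (Fintype.card F'))
    (hx : padicValNat 2 (Fintype.card F' - 1) = padicValNat 2 (Fintype.card F - 1))
    (hy : padicValNat 2 (Fintype.card F' + 1) = padicValNat 2 (Fintype.card F + 1)) {G : Type*} [Group G]
    (g : G ≃* Matrix.ProjectiveSpecialLinearGroup (Fin n) F') :
    FusTo 2 G (Matrix.ProjectiveSpecialLinearGroup (Fin n) F) := by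
  obtain ⟨D⟩ := exists_dat2 hn (val_cases hq Fintype.one_lt_card)
  have := cycRing_isDomain D.L
  have := D.hfin
  obtain ⟨σ, hσ⟩ := D.exists_pk_lin hn hq rfl rfl
  obtain ⟨σ', hσ'⟩ := D.exists_pk_lin hn hq' hx hy
  obtain ⟨e⟩ := nonempty_pslEquiv n F
  obtain ⟨e'⟩ := nonempty_pslEquiv n F'
  exact fusTo_of_pk2 (cycRoot_spec D.L) D.pow_eq_one hσ' hσ (e'.trans g.symm) e

/-- `PSU_n(q')` and `PSL_n(q)`. -/
theorem fusTo_uni_lin2 (hn : 2 ≤ n) {F : Type u} [Field F] [Fintype F] {F' : Type v} [Field F'] [Fintype F']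
    {q' : ℕ} (hq : Odd (Fintype.card F)) (hF' : Fintype.card F' = q' ^ 2) (hq' : Odd q')
    (hx : padicValNat 2 (q' + 1) = padicValNat 2 (Fintype.card F - 1))
    (hy : padicValNat 2 (q' - 1) = padicValNat 2 (Fintype.card F + 1)) {G : Type*} [Group G]
    (g : G ≃* Cfsg.PSU n F' q') :
    FusTo 2 G (Matrix.ProjectiveSpecialLinearGroup (Fin n) F) := by
  obtain ⟨D⟩ := exists_dat2 hn (val_cases hq Fintype.one_lt_card)
  have := cycRing_isDomain D.L
  have := D.hfin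
  obtain ⟨σ, hσ⟩ := D.exists_pk_lin hn hq rfl rfl
  obtain ⟨σ', hσ'⟩ := D.exists_pk_uni hn hF' hq' hx hy
  obtain ⟨e⟩ := nonempty_pslEquiv n F
  obtain ⟨e'⟩ := nonempty_psuEquiv n q' F'
  have : Finite (Cfsg.GU n F' q') := Cfsg.Agent.LieClassical.GUOrder.finite_GU n
  exact fusTo_of_pk2 (cycRoot_spec D.L) D.pow_eq_one hσ' hσ (e'.trans g.symm) e

end Main

end Cfsg.Agent.H751.Big
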