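import Cfsg.Agent.H763.PsaPar
import Cfsg.Agent.H285.D4Sylow
import Cfsg.Agent.ClassificationK.GTwoSylow
import Cfsg.Agent.S1059
import Cfsg.Agent.S1152
import Cfsg.Agent.S1157

/-!
# S5173: `G₂(q)`, `³D₄(q)`, `²G₂(q)` do not have the Sylow 2-subgroups of `PSL_n(q)`, `n ≥ 6` (helper751)
-/

set_option autoImplicit false

namespace Cfsg.Agent.H751.Big

open Subgroup Cfsg
open Cfsg.Agent.ClassificationK.GTwoModel

section Model

variable {m : ℕ}

/-- The elements of the abelian normal subgroup of index 4. -/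
def abT (m : ℕ) : Subgroup (T m) where
  carrier := {x | x.e = false ∧ x.d = false}
  mul_mem' := by
    rintro ⟨i, j, e, d⟩ ⟨i', j', e', d'⟩ ⟨h1, h2⟩ ⟨h3, h4⟩
    have h1' : e = false := h1
    have h2' : d = false := h2
    have h3' : e' = false := h3
    have h4' : d' = false := h4
    subst h1' h2' h3' h4'
    exact ⟨rfl, rfl⟩
  one_mem' := ⟨rfl, rfl⟩
  inv_mem' := by
    rintro ⟨i, j, e, d⟩ ⟨h1, h2⟩
    exact ⟨h1, h2⟩

theorem mem_abT {x : T m} : x ∈ abT m ↔ x.e = false ∧ x.d = false := Iff.rfl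

theorem abT_comm : ∀ x ∈ abT m, ∀ y ∈ abT m, x * y = y * x := by
  rintro ⟨i, j, e, d⟩ ⟨h1, h2⟩ ⟨i', j', e', d'⟩ ⟨h3, h4⟩
  have h1' : e = false := h1
  have h2' : d = false := h2
  have h3' : e' = false := h3
  have h4' : d' = false := h4
  subst h1' h2' h3' h4'
  rw [T.mul_mk, T.mul_mk]
  simp [add_comm]

theorem abT_normal : (abT m).Normal := by
  refine ⟨?_⟩
  rintro n hn g
  have h1 : ∀ x y : T m, (x * y).e = xor x.e y.e := fun x y => rfl
  have h2 : ∀ x y : T m, (x * y).d = xor x.d y.d := fun x y => rfl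
  have h3 : (g⁻¹).e = g.e := rfl
  have h4 : (g⁻¹).d = g.d := rfl
  rw [mem_abT] at hn ⊢
  rw [h1, h1, h2, h2, h3, h4, hn.1, hn.2]
  cases g.e <;> cases g.d <;> exact ⟨rfl, rfl⟩

theorem abT_index [NeZero m] : (abT m).index ≤ 4 := by
  -- the cosets are determined by `(e, d)`
  have h1 : Function.Injective (fun c : T m ⧸ abT m => Quotient.liftOn' c (fun x : T m => (x.e, x.d)) (by
      intro a b hab
      rw [QuotientGroup.leftRel_apply, mem_abT] at hab
      have h3 : (a⁻¹ * b).e = xor a.e b.e := rfl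
      have h4 : (a⁻¹ * b).d = xor a.d b.d := rfl
      rw [h3, h4] at hab
      obtain ⟨h5, h6⟩ := hab
      show (a.e, a.d) = (b.e, b.d)
      have h7 : ∀ u v : Bool, xor u v = false → u = v := by decide
      rw [h7 _ _ h5, h7 _ _ h6])) := by
    intro c c' h
    induction c using Quotient.inductionOn' with | _ a =>
    induction c' using Quotient.inductionOn' with | _ b =>
    have h2 : (a.e, a.d) = (b.e, b.d) := h
    rw [Prod.mk.injEq] at h2
    apply Quotient.sound'
    rw [QuotientGroup.leftRel_apply, mem_abT]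
    have h3 : (a⁻¹ * b).e = xor a.e b.e := rfl
    have h4 : (a⁻¹ * b).d = xor a.d b.d := rfl
    rw [h3, h4, h2.1, h2.2]
    cases b.e <;> cases b.d <;> exact ⟨rfl, rfl⟩
  have h2 := Nat.card_le_card_of_injective _ h1
  have h3 : Nat.card (Bool × Bool) = 4 := by
    rw [Nat.card_eq_fintype_card]
    rfl
  rw [h3] at h2
  exact h2

end Model

section Main

variable {n : ℕ} {F : Type*} [Field F] [Fintype F]

/-- An abelian normal subgroup of the Sylow 2-subgroup has index at least 16. -/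
theorem index_ge (hn : 6 ≤ n) (hF : Odd (Fintype.card F)) (S : Sylow 2 (Matrix.ProjectiveSpecialLinearGroup (Fin n) F))
    {S1 : Type*} [Group S1] [Finite S1] (e : (S : Subgroup (Matrix.ProjectiveSpecialLinearGroup (Fin n) F)) ≃* S1)
    {A : Subgroup S1} (hA : A.Normal) (hab : ∀ x ∈ A, ∀ y ∈ A, x * y = y * x) : 8 ≤ A.index := by
  rcases (H763.Psa.par_psl (by omega) hF S).alt with ⟨-, B, c, hB, -⟩ | ⟨h5, -⟩
  · have h1 := hB.index_le e hA hab
    have h2 : 2 ^ 3 ≤ 2 ^ (n / 2 + (Nat.factorial (n / 2)).factorization 2) :=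
      Nat.pow_le_pow_right (by norm_num) (by omega)
    exact le_trans h2 h1
  · omega

theorem not_model (hn : 6 ≤ n) (hF : Odd (Fintype.card F)) (S : Sylow 2 (Matrix.ProjectiveSpecialLinearGroup (Fin n) F))
    {k : ℕ} (e : (S : Subgroup (Matrix.ProjectiveSpecialLinearGroup (Fin n) F)) ≃* T (2 * 2 ^ k)) : False := by
  have : NeZero (2 * 2 ^ k) := ⟨by positivity⟩
  have h1 := index_ge hn hF S e abT_normal abT_comm
  have h2 := abT_index (m := 2 * 2 ^ k)
  omega

theorem not_G2 (hn : 6 ≤ n) (hF : Odd (Fintype.card F)) (S : Sylow 2 (Matrix.ProjectiveSpecialLinearGroup (Fin n) F))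
    {K : Type*} [Field K] [Fintype K] (hK : Odd (Fintype.card K)) (P : Sylow 2 (Lie.chevG2.group K))
    (e : (S : Subgroup (Matrix.ProjectiveSpecialLinearGroup (Fin n) F)) ≃* (P : Subgroup (Lie.chevG2.group K))) :
    False := by
  obtain ⟨k, -, ⟨f⟩⟩ := Cfsg.Agent.ClassificationK.GTwoSylow.exists_equiv hK (Cfsg.Agent.S1059.result (F := K) rfl) P
  exact not_model hn hF S (e.trans f.symm)

theorem not_3D4 (hn : 6 ≤ n) (hF : Odd (Fintype.card F)) (S : Sylow 2 (Matrix.ProjectiveSpecialLinearGroup (Fin n) F))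
    {K : Type*} [Field K] [Fintype K] {q : ℕ} (hq : Odd q) (hK : Fintype.card K = q ^ 3)
    (P : Sylow 2 (Lie.twistedD4 K q))
    (e : (S : Subgroup (Matrix.ProjectiveSpecialLinearGroup (Fin n) F)) ≃* (P : Subgroup (Lie.twistedD4 K q))) :
    False := by
  obtain ⟨k, -, -, -, -, ⟨f⟩⟩ := Cfsg.Agent.H285.D4Sylow.exists_equiv hq hK P
  exact not_model hn hF S (e.trans f.symm)

theorem not_2G2 (hn : 6 ≤ n) (hF : Odd (Fintype.card F)) (S : Sylow 2 (Matrix.ProjectiveSpecialLinearGroup (Fin n) F))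
    {K : Type*} [Field K] [Fintype K] {m : ℕ} (hK : Fintype.card K = 3 ^ (2 * m + 1))
    (P : Sylow 2 (Lie.twistedG2 K (3 ^ m)))
    (e : (S : Subgroup (Matrix.ProjectiveSpecialLinearGroup (Fin n) F)) ≃* (P : Subgroup (Lie.twistedG2 K (3 ^ m)))) :
    False := by
  obtain ⟨a, haH, ha1, ha2⟩ := Cfsg.Agent.S1157.exists_involution hK
  obtain ⟨-, hS⟩ := Cfsg.Agent.S1152.result hK a haH ha1 ha2
  obtain ⟨h8, hsq⟩ := hS P
  have h1 := index_ge hn hF S e (A := ⊤) inferInstance (by
    rintro ⟨x, hx⟩ - ⟨y, hy⟩ -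
    apply Subtype.ext
    show x * y = y * x
    have h1 := hsq _ (mul_mem hx hy)
    have h2 := hsq x hx
    have h3 := hsq y hy
    calc x * y = x * (x * y * (x * y)) * y := by rw [h1, mul_one]
      _ = (x * x) * (y * x) * (y * y) := by group
      _ = y * x := by rw [h2, h3, one_mul, mul_one])
  rw [index_top] at h1
  omega

end Main

end Cfsg.Agent.H751.Big
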