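import Cfsg.Prelude.Def_FusionSystem
import Mathlib

/-!
# Transport through an isomorphism of 2-fusion systems (helper751)

* `SameFus S T φ` : sets of pairs of elements of `S` are simultaneously conjugate in `G` if and only if the sets of
  their images under `φ : S ≃* T` are simultaneously conjugate in `H`;
* `exists_sameFus` : from the hypothesis of S5117, S5173;
* `Good Q z` : `Q` is a generalised quaternion subgroup with involution `z`, strongly closed in the 2-subgroups of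
  `C(z)` containing `Q`;
* `good_of_normal` : Sylow 2-subgroups of a normal subgroup of `C(z)`;
* `SameFus.good` : the property is transported.
-/

set_option autoImplicit false

namespace Cfsg.Agent.H751.Big

open Subgroup Cfsg

/-- The same fusion of the subgroups `S` of `G` and `T` of `H`. -/
def SameFus {G H : Type*} [Group G] [Group H] (S : Subgroup G) (T : Subgroup H) (φ : S ≃* T) : Prop :=
  ∀ R : Set (S × S), (∃ g : G, ∀ p ∈ R, (p.2 : G) = g * p.1 * g⁻¹) ↔
    ∃ h : H, ∀ p ∈ R, (φ p.2 : H) = h * φ p.1 * h⁻¹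

section Basic

variable {G H : Type*} [Group G] [Group H] {S : Subgroup G} {T : Subgroup H} {φ : S ≃* T}

theorem SameFus.symm (h : SameFus S T φ) : SameFus T S φ.symm := by
  intro R
  have h1 := h ((fun p : T × T => (φ.symm p.1, φ.symm p.2)) '' R)
  constructor
  · rintro ⟨g, hg⟩
    obtain ⟨k, hk⟩ := h1.2 ⟨g, by
      rintro _ ⟨p, hp, rfl⟩
      simpa using hg p hp⟩
    exact ⟨k, fun p hp => by simpa using hk _ ⟨p, hp, rfl⟩⟩
  · rintro ⟨g, hg⟩
    obtain ⟨k, hk⟩ := h1.1 ⟨g, by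
      rintro _ ⟨p, hp, rfl⟩
      simpa using hg p hp⟩
    exact ⟨k, fun p hp => by simpa using hk _ ⟨p, hp, rfl⟩⟩

/-- Families. -/
theorem SameFus.fam (h : SameFus S T φ) {ι : Type*} (x y : ι → S) :
    (∃ g : G, ∀ i, (y i : G) = g * x i * g⁻¹) ↔ ∃ k : H, ∀ i, (φ (y i) : H) = k * φ (x i) * k⁻¹ := by
  have h1 := h (Set.range fun i => (x i, y i))
  constructor
  · rintro ⟨g, hg⟩
    obtain ⟨k, hk⟩ := h1.1 ⟨g, by
      rintro _ ⟨i, rfl⟩
      exact hg i⟩
    exact ⟨k, fun i => hk _ ⟨i, rfl⟩⟩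
  · rintro ⟨g, hg⟩
    obtain ⟨k, hk⟩ := h1.2 ⟨g, by
      rintro _ ⟨i, rfl⟩
      exact hg i⟩
    exact ⟨k, fun i => hk _ ⟨i, rfl⟩⟩

/-- Single elements. -/
theorem SameFus.one (h : SameFus S T φ) (x y : S) :
    (∃ g : G, (y : G) = g * x * g⁻¹) ↔ ∃ k : H, (φ y : H) = k * φ x * k⁻¹ := by
  have h1 := h.fam (ι := Unit) (fun _ => x) (fun _ => y)
  simpa using h1

end Basic

/-- The hypothesis of S5173. -/
theorem exists_sameFus {G H : Type*} [Group G] [Group H] {S : Subgroup G} {ι : S →* H}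
    (hι : (groupFusionSystem S).IsRealizedBy ι) {T : Subgroup H} (hT : T = ι.range) :
    ∃ φ : S ≃* T, (∀ x, (φ x : H) = ι x) ∧ SameFus S T φ := by
  subst hT
  refine ⟨MonoidHom.ofInjective hι.1, fun x => rfl, ?_⟩
  intro R
  constructor
  · rintro ⟨g, hg⟩
    -- the subgroup generated by the first components
    let X : Set G := {x | ∃ p ∈ R, (p.1 : G) = x}
    let P : Subgroup G := closure X
    have hP : P ≤ S := by
      rw [closure_le]
      rintro _ ⟨p, -, rfl⟩
      exact p.1.2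
    have hgP : ∀ x ∈ P, g * x * g⁻¹ ∈ S := by
      intro x hx
      have h1 : P ≤ S.comap (MulAut.conj g).toMonoidHom := by
        rw [closure_le]
        rintro _ ⟨p, hp, rfl⟩
        show g * (p.1 : G) * g⁻¹ ∈ S
        rw [← hg p hp]
        exact p.2.2
      exact h1 hx
    let ψ : P →* G := (MulAut.conj g).toMonoidHom.comp P.subtype
    have hψ : ∀ x : P, ψ x ∈ S := fun x => hgP x x.2
    obtain ⟨k, hk⟩ := (hι.2 P hP ψ hψ).1 ⟨hP, hψ, g, fun _ => rfl⟩
    refine ⟨k, fun p hp => ?_⟩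
    have hpP : (p.1 : G) ∈ P := subset_closure ⟨p, hp, rfl⟩
    have h2 := hk ⟨p.1, hpP⟩
    have h3 : (⟨ψ ⟨p.1, hpP⟩, hψ ⟨p.1, hpP⟩⟩ : S) = p.2 := Subtype.ext (hg p hp).symm
    rw [h3] at h2
    exact h2
  · rintro ⟨k, hk⟩
    let X : Set G := {x | ∃ p ∈ R, (p.1 : G) = x}
    let P : Subgroup G := closure X
    have hP : P ≤ S := by
      rw [closure_le]
      rintro _ ⟨p, -, rfl⟩
      exact p.1.2
    -- the image of `P` under the conjugation by `k` is in the range
    have hmem : ∀ x (hx : x ∈ P), k * ι ⟨x, hP hx⟩ * k⁻¹ ∈ ι.range := by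
      intro x hx
      have h1 : P ≤ (((ι.range).comap (MulAut.conj k).toMonoidHom).comap ι).map S.subtype := by
        rw [closure_le]
        rintro _ ⟨p, hp, rfl⟩
        refine ⟨p.1, ?_, rfl⟩
        show k * ι p.1 * k⁻¹ ∈ ι.range
        exact ⟨p.2, hk p hp⟩
      obtain ⟨y, hy, hyx⟩ := h1 hx
      have : y = ⟨x, hP hx⟩ := Subtype.ext hyx
      subst this
      exact hy
    let ψ : P →* G := S.subtype.comp ((MonoidHom.ofInjective hι.1).symm.toMonoidHom.comp
      { toFun := fun x => ⟨k * ι ⟨x, hP x.2⟩ * k⁻¹, hmem x x.2⟩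
        map_one' := by
          apply Subtype.ext
          show k * ι ⟨1, _⟩ * k⁻¹ = 1
          have : (⟨1, S.one_mem⟩ : S) = 1 := rfl
          rw [this, map_one, mul_one, mul_inv_cancel]
        map_mul' := fun x y => by
          apply Subtype.ext
          show k * ι ⟨(x : G) * y, _⟩ * k⁻¹ = k * ι ⟨x, _⟩ * k⁻¹ * (k * ι ⟨y, _⟩ * k⁻¹)
          have : (⟨(x : G) * y, hP (P.mul_mem x.2 y.2)⟩ : S) = ⟨x, hP x.2⟩ * ⟨y, hP y.2⟩ := rfl
          rw [this, map_mul]
          group })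
    have hψ : ∀ x : P, ψ x ∈ S := fun x => Subtype.mem _
    have hψι : ∀ x : P, ι ⟨ψ x, hψ x⟩ = k * ι ⟨x, hP x.2⟩ * k⁻¹ := by
      intro x
      have h1 : (⟨ψ x, hψ x⟩ : S) = (MonoidHom.ofInjective hι.1).symm ⟨k * ι ⟨x, hP x.2⟩ * k⁻¹, hmem x x.2⟩ := rfl
      rw [h1]
      have h2 := congrArg Subtype.val ((MonoidHom.ofInjective hι.1).apply_symm_apply ⟨k * ι ⟨x, hP x.2⟩ * k⁻¹, hmem x x.2⟩)
      exact h2
    obtain ⟨-, -, g, hg⟩ := (hι.2 P hP ψ hψ).2 ⟨k, hψι⟩
    refine ⟨g, fun p hp => ?_⟩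
    have hpP : (p.1 : G) ∈ P := subset_closure ⟨p, hp, rfl⟩
    rw [← hg ⟨p.1, hpP⟩]
    have h3 : (⟨ψ ⟨p.1, hpP⟩, hψ ⟨p.1, hpP⟩⟩ : S) = p.2 := by
      apply hι.1
      rw [hψι]
      exact (hk p hp).symm
    exact (congrArg Subtype.val h3).symm

/-! ### Good quaternion subgroups -/

/-- `Q` is a generalised quaternion subgroup with involution `z`, strongly closed in `C(z)`. -/
structure Good {G : Type*} [Group G] (Q : Subgroup G) (z : G) : Prop where
  quat : ∃ n : ℕ, Nonempty (Q ≃* QuaternionGroup (2 ^ (n + 1)))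
  mem : z ∈ Q
  ord : orderOf z = 2
  le : Q ≤ centralizer {z}
  closed : ∀ P : Subgroup G, IsPGroup 2 P → Q ≤ P → P ≤ centralizer {z} → ∀ x ∈ Q, ∀ c ∈ centralizer ({z} : Set G),
    c * x * c⁻¹ ∈ P → c * x * c⁻¹ ∈ Q

section Good

variable {G : Type*} [Group G] {Q : Subgroup G} {z : G}

theorem Good.isPGroup (h : Good Q z) : IsPGroup 2 Q := by
  obtain ⟨n, ⟨e⟩⟩ := h.quat
  have h1 : Nat.card Q = 2 ^ (n + 3) := by
    rw [Nat.card_congr e.toEquiv, Nat.card_eq_fintype_card, QuaternionGroup.card]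
    rw [pow_add, pow_add]
    ring
  exact IsPGroup.of_card h1

theorem Good.conj (h : Good Q z) (g : G) : Good (Q.map (MulAut.conj g).toMonoidHom) (g * z * g⁻¹) := by
  have hc : ∀ x : G, x ∈ centralizer ({g * z * g⁻¹} : Set G) ↔ g⁻¹ * x * g ∈ centralizer ({z} : Set G) := by
    intro x
    rw [mem_centralizer_singleton_iff, mem_centralizer_singleton_iff]
    constructor
    · intro h1
      calc g⁻¹ * x * g * z = g⁻¹ * (x * (g * z * g⁻¹)) * g := by group
        _ = g⁻¹ * ((g * z * g⁻¹) * x) * g := by rw [h1]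
        _ = z * (g⁻¹ * x * g) := by group
    · intro h1
      calc x * (g * z * g⁻¹) = g * (g⁻¹ * x * g * z) * g⁻¹ := by group
        _ = g * (z * (g⁻¹ * x * g)) * g⁻¹ := by rw [h1]
        _ = g * z * g⁻¹ * x := by group
  refine ⟨?_, ⟨z, h.mem, rfl⟩, ?_, ?_, ?_⟩
  · obtain ⟨n, ⟨e⟩⟩ := h.quat
    exact ⟨n, ⟨(Q.equivMapOfInjective _ (MulAut.conj g).injective).symm.trans e⟩⟩
  · rw [← h.ord]
    exact orderOf_injective (MulAut.conj g).toMonoidHom (MulAut.conj g).injective z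
  · rintro _ ⟨x, hx, rfl⟩
    rw [hc]
    have : g⁻¹ * (MulAut.conj g).toMonoidHom x * g = x := by
      show g⁻¹ * (g * x * g⁻¹) * g = x
      group
    rw [this]
    exact h.le hx
  · rintro P hP hQP hPz _ ⟨x, hx, rfl⟩ c hc' hcx
    let P' : Subgroup G := P.map (MulAut.conj g⁻¹).toMonoidHom
    have hmem : ∀ y, y ∈ P' ↔ g * y * g⁻¹ ∈ P := by
      intro y
      constructor
      · rintro ⟨w, hw, rfl⟩
        have : g * (MulAut.conj g⁻¹).toMonoidHom w * g⁻¹ = w := by
          show g * (g⁻¹ * w * g⁻¹⁻¹) * g⁻¹ = w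
          group
        rw [this]
        exact hw
      · intro hy
        refine ⟨_, hy, ?_⟩
        show g⁻¹ * (g * y * g⁻¹) * g⁻¹⁻¹ = y
        group
    have h1 := h.closed P' (hP.map _) (fun y hy => (hmem y).2 (hQP ⟨y, hy, rfl⟩)) (fun y hy => by
      have h2 := hPz ((hmem y).1 hy)
      rw [hc] at h2
      have : g⁻¹ * (g * y * g⁻¹) * g = y := by group
      rwa [this] at h2) x hx (g⁻¹ * c * g) ((hc c).1 hc') (by
      rw [hmem]
      have : g * (g⁻¹ * c * g * x * (g⁻¹ * c * g)⁻¹) * g⁻¹ = c * (g * x * g⁻¹) * c⁻¹ := by group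
      rw [this]
      exact hcx)
    refine ⟨_, h1, ?_⟩
    show g * (g⁻¹ * c * g * x * (g⁻¹ * c * g)⁻¹) * g⁻¹ = c * (g * x * g⁻¹) * c⁻¹
    group

/-- Sylow 2-subgroups of a normal subgroup of `C(z)`. -/
theorem good_of_normal [Finite G] {K : Subgroup G} (hK : K ≤ centralizer {z})
    (hn : ∀ c ∈ centralizer ({z} : Set G), ∀ x ∈ K, c * x * c⁻¹ ∈ K) (hQK : Q ≤ K) (hind : ¬ 2 ∣ Q.relIndex K)
    (hq : ∃ n : ℕ, Nonempty (Q ≃* QuaternionGroup (2 ^ (n + 1)))) (hz : z ∈ Q) (ho : orderOf z = 2) : Good Q z := by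
  refine ⟨hq, hz, ho, hQK.trans hK, ?_⟩
  intro P hP hQP _ x hx c hc hcx
  -- `P ⊓ K` is a 2-subgroup of `K` containing the Sylow subgroup `Q`
  have hpr : Fact (Nat.Prime 2) := ⟨Nat.prime_two⟩
  have h1 : IsPGroup 2 (P ⊓ K : Subgroup G) := hP.to_le inf_le_left
  have h2 : Q ≤ P ⊓ K := le_inf hQP hQK
  have h3 : Q = P ⊓ K := by
    apply eq_of_le_of_card_ge h2
    have h4 : Q.relIndex (P ⊓ K) ∣ Q.relIndex K := by
      have := Subgroup.relIndex_mul_relIndex Q (P ⊓ K) K h2 inf_le_right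
      exact ⟨_, this.symm⟩
    have h5 : Q.relIndex (P ⊓ K) ∣ Nat.card (P ⊓ K : Subgroup G) := relIndex_dvd_card _ _
    obtain ⟨k, hk⟩ := IsPGroup.iff_card.1 h1
    rw [hk] at h5
    obtain ⟨j, -, hj⟩ := (Nat.dvd_prime_pow Nat.prime_two).1 h5
    rcases Nat.eq_zero_or_pos j with rfl | hj0
    · rw [pow_zero, relIndex_eq_one] at hj
      exact card_le_of_le hj
    · exact absurd ((dvd_pow_self 2 hj0.ne').trans (hj ▸ h4)) hind
  rw [h3]
  exact ⟨hcx, hn c hc x (hQK hx)⟩

end Good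

section Transport

variable {G H : Type*} [Group G] [Group H] [Finite G] [Finite H]

/-- A 2-subgroup is conjugate into the Sylow subgroup. -/
theorem exists_conj_le (S : Sylow 2 G) {P : Subgroup G} (hP : IsPGroup 2 P) :
    ∃ g : G, ∀ x ∈ P, g * x * g⁻¹ ∈ (S : Subgroup G) := by
  have hp : Fact (Nat.Prime 2) := ⟨Nat.prime_two⟩
  obtain ⟨S', hS'⟩ := hP.exists_le_sylow
  obtain ⟨g, hg⟩ := MulAction.exists_smul_eq G S' S
  refine ⟨g, fun x hx => ?_⟩
  rw [← hg]
  exact ⟨x, hS' hx, rfl⟩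

variable {S : Sylow 2 G} {T : Sylow 2 H} {φ : (S : Subgroup G) ≃* (T : Subgroup H)}

/-- the image in `H` of a subgroup of `S` -/
def img (φ : (S : Subgroup G) ≃* (T : Subgroup H)) (Q : Subgroup G) : Subgroup H :=
  ((Q.subgroupOf (S : Subgroup G)).map φ.toMonoidHom).map (T : Subgroup H).subtype

omit [Finite G] [Finite H] in
theorem mem_img {Q : Subgroup G} {y : H} :
    y ∈ img φ Q ↔ ∃ x : (S : Subgroup G), (x : G) ∈ Q ∧ (φ x : H) = y := by
  constructor
  · rintro ⟨_, ⟨x, hx, rfl⟩, rfl⟩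
    exact ⟨x, hx, rfl⟩
  · rintro ⟨x, hx, rfl⟩
    exact ⟨φ x, ⟨x, hx, rfl⟩, rfl⟩

omit [Finite G] [Finite H] in
theorem apply_mem_img {Q : Subgroup G} {x : (S : Subgroup G)} : (φ x : H) ∈ img φ Q ↔ (x : G) ∈ Q := by
  rw [mem_img]
  constructor
  · rintro ⟨y, hy, h⟩
    have : y = x := φ.injective (Subtype.ext h)
    rwa [← this]
  · intro h
    exact ⟨x, h, rfl⟩

omit [Finite G] [Finite H] in
theorem img_le {Q : Subgroup G} : img φ Q ≤ (T : Subgroup H) := by
  rintro y hy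
  obtain ⟨x, -, rfl⟩ := mem_img.1 hy
  exact (φ x).2

/-- the restriction of `φ` -/
noncomputable def imgEquiv {Q : Subgroup G} (hQ : Q ≤ (S : Subgroup G)) : Q ≃* img φ Q :=
  (subgroupOfEquivOfLe hQ).symm.trans (((Q.subgroupOf (S : Subgroup G)).equivMapOfInjective _ φ.injective).trans
    (((Q.subgroupOf (S : Subgroup G)).map φ.toMonoidHom).equivMapOfInjective _ (Subtype.val_injective)))

omit [Finite H] in
/-- The centralizer of a fully centralized element. -/
theorem SameFus.card_le (h : SameFus (S : Subgroup G) (T : Subgroup H) φ) (z : (S : Subgroup G))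
    (P : Subgroup G) (hP : IsPGroup 2 P) (hPz : P ≤ centralizer {(z : G)}) (hzP : (z : G) ∈ P) :
    ∃ P' : Subgroup H, IsPGroup 2 P' ∧ P' ≤ centralizer {(φ z : H)} ∧ Nat.card P' = Nat.card P := by
  obtain ⟨g, hg⟩ := exists_conj_le S hP
  let z1 : (S : Subgroup G) := ⟨g * z * g⁻¹, hg z hzP⟩
  obtain ⟨k, hk⟩ := (h.one z z1).1 ⟨g, rfl⟩
  let P1 : Subgroup G := P.map (MulAut.conj g).toMonoidHom
  have hP1 : P1 ≤ (S : Subgroup G) := by
    rintro _ ⟨x, hx, rfl⟩
    exact hg x hx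
  refine ⟨(img φ P1).map (MulAut.conj k⁻¹).toMonoidHom, ?_, ?_, ?_⟩
  · exact (T.isPGroup'.to_le img_le).map _
  · rintro _ ⟨y, hy, rfl⟩
    obtain ⟨x, ⟨w, hw, hwx⟩, rfl⟩ := mem_img.1 hy
    rw [mem_centralizer_singleton_iff]
    have h1 : x * z1 = z1 * x := by
      apply Subtype.ext
      have hwx' : g * w * g⁻¹ = x := hwx
      have h2 := mem_centralizer_singleton_iff.1 (hPz hw)
      show (x : G) * (g * z * g⁻¹) = g * z * g⁻¹ * x
      rw [← hwx']
      calc g * w * g⁻¹ * (g * z * g⁻¹) = g * (w * z) * g⁻¹ := by group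
        _ = g * (z * w) * g⁻¹ := by rw [h2]
        _ = g * z * g⁻¹ * (g * w * g⁻¹) := by group
    have h3 : (φ x : H) * φ z1 = φ z1 * φ x := by
      have := congrArg (fun u => ((φ u : (T : Subgroup H)) : H)) h1
      simpa using this
    rw [hk] at h3
    show k⁻¹ * (φ x : H) * k⁻¹⁻¹ * φ z = φ z * (k⁻¹ * (φ x : H) * k⁻¹⁻¹)
    calc k⁻¹ * (φ x : H) * k⁻¹⁻¹ * φ z = k⁻¹ * ((φ x : H) * (k * φ z * k⁻¹)) * k := by group
      _ = k⁻¹ * ((k * φ z * k⁻¹) * φ x) * k := by rw [h3]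
      _ = φ z * (k⁻¹ * (φ x : H) * k⁻¹⁻¹) := by group
  · rw [card_map_of_injective (MulAut.conj k⁻¹).injective, ← Nat.card_congr (imgEquiv hP1).toEquiv,
      card_map_of_injective (MulAut.conj g).injective]

/-- The transport, first case: a Sylow 2-subgroup of `C(z)` is contained in `S`. -/
theorem SameFus.good_aux (h : SameFus (S : Subgroup G) (T : Subgroup H) φ) {Q : Subgroup G} {z : (S : Subgroup G)}
    (hQ : Good Q (z : G)) {P : Subgroup G} (hP : IsPGroup 2 P) (hPz : P ≤ centralizer {(z : G)})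
    (hQP : Q ≤ P) (hPS : P ≤ (S : Subgroup G))
    (hmax : ∀ P' : Subgroup G, IsPGroup 2 P' → P' ≤ centralizer {(z : G)} → Nat.card P' ≤ Nat.card P) :
    Good (img φ Q) (φ z : H) := by
  have hp : Fact (Nat.Prime 2) := ⟨Nat.prime_two⟩
  have hQS : Q ≤ (S : Subgroup G) := hQP.trans hPS
  have hmem : ∀ x : (S : Subgroup G), (x : G) ∈ centralizer ({(z : G)} : Set G) ↔
      (φ x : H) ∈ centralizer ({(φ z : H)} : Set H) := by
    intro x
    rw [mem_centralizer_singleton_iff, mem_centralizer_singleton_iff]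
    constructor
    · intro h1
      have h2 : x * z = z * x := Subtype.ext h1
      have := congrArg (fun u => ((φ u : (T : Subgroup H)) : H)) h2
      simpa using this
    · intro h1
      have h2 : φ (x * z) = φ (z * x) := by
        rw [map_mul, map_mul]
        exact Subtype.ext h1
      exact congrArg Subtype.val (φ.injective h2)
  -- `P = C_S(z)`
  have hPe : ∀ x : (S : Subgroup G), (x : G) ∈ centralizer ({(z : G)} : Set G) → (x : G) ∈ P := by
    have h1 : P ≤ (S : Subgroup G) ⊓ centralizer {(z : G)} := le_inf hPS hPz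
    have h2 := eq_of_le_of_card_ge h1 (hmax _ (S.isPGroup'.to_le inf_le_left) inf_le_right)
    intro x hx
    rw [h2]
    exact ⟨x.2, hx⟩
  -- `C_T(φ z)` is a Sylow subgroup of `C(φ z)`
  have hmax' : ∀ P' : Subgroup H, IsPGroup 2 P' → P' ≤ centralizer {(φ z : H)} → Nat.card P' ≤ Nat.card (img φ P) := by
    intro P' hP' hPz'
    have hzc : (φ z : H) ∈ centralizer ({(φ z : H)} : Set H) := mem_centralizer_singleton_iff.2 rfl
    -- add the element `φ z`
    have hz2 : IsPGroup 2 (zpowers (φ z : H)) := T.isPGroup'.to_le (zpowers_le.2 (φ z).2)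
    let P2 : Subgroup H := P' ⊔ zpowers (φ z : H)
    have hle : zpowers (φ z : H) ≤ centralizer ((P' : Subgroup H) : Set H) := by
      rw [zpowers_le, mem_centralizer_iff]
      intro x hx
      exact (mem_centralizer_singleton_iff.1 (hPz' hx))
    have hnorm : P' ≤ normalizer ((zpowers (φ z : H) : Subgroup H) : Set H) := by
      intro x hx
      rw [mem_normalizer_iff]
      have hc := mem_centralizer_singleton_iff.1 (hPz' hx)
      have hcx : ∀ y ∈ zpowers (φ z : H), x * y * x⁻¹ = y := by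
        rintro y ⟨n, rfl⟩
        show x * (φ z : H) ^ n * x⁻¹ = (φ z : H) ^ n
        have : Commute x (φ z : H) := hc
        rw [(this.zpow_right n).eq, mul_inv_cancel_right]
      have hcx' : ∀ y ∈ zpowers (φ z : H), x⁻¹ * y * x = y := by
        rintro y ⟨n, rfl⟩
        show x⁻¹ * (φ z : H) ^ n * x = (φ z : H) ^ n
        have : Commute x (φ z : H) := hc
        rw [(this.inv_left.zpow_right n).eq, mul_assoc, inv_mul_cancel, mul_one]
      intro y
      constructor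
      · intro hy
        rw [hcx y hy]
        exact hy
      · intro hy
        have h1 := hcx' _ hy
        have : x⁻¹ * (x * y * x⁻¹) * x = y := by group
        rw [this] at h1
        rw [h1]
        exact hy
    have hP2 : IsPGroup 2 P2 := hP'.to_sup_of_normal_right' hz2 hnorm
    have hP2z : P2 ≤ centralizer {(φ z : H)} := sup_le hPz' (zpowers_le.2 hzc)
    obtain ⟨P'', h1, h2, h3⟩ := h.symm.card_le (φ z) P2 hP2 hP2z (mem_sup_right (mem_zpowers _))
    rw [MulEquiv.symm_apply_apply] at h2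
    calc Nat.card P' ≤ Nat.card P2 := card_le_of_le le_sup_left
      _ = Nat.card P'' := h3.symm
      _ ≤ Nat.card P := hmax P'' h1 h2
      _ = Nat.card (img φ P) := Nat.card_congr (imgEquiv hPS).toEquiv
  have hPimg : img φ P ≤ centralizer {(φ z : H)} := by
    intro y hy
    obtain ⟨x, hx, rfl⟩ := mem_img.1 hy
    exact (hmem x).1 (hPz hx)
  refine ⟨?_, apply_mem_img.2 hQ.mem, ?_, ?_, ?_⟩
  · obtain ⟨n, ⟨e⟩⟩ := hQ.quat
    exact ⟨n, ⟨(imgEquiv hQS).symm.trans e⟩⟩
  · have h1 : orderOf (φ z : H) = orderOf (φ z) := Subgroup.orderOf_coe _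
    have h2 : orderOf (z : G) = orderOf z := Subgroup.orderOf_coe _
    rw [h1, MulEquiv.orderOf_eq, ← h2]
    exact hQ.ord
  · intro y hy
    obtain ⟨x, hx, rfl⟩ := mem_img.1 hy
    exact (hmem x).1 (hQ.le hx)
  · intro P' hP' hQP' hPz' y hy c hc hcy
    -- a Sylow 2-subgroup of `C(φ z)` containing `P'`
    obtain ⟨x, hx, rfl⟩ := mem_img.1 hy
    let C : Subgroup H := centralizer {(φ z : H)}
    have hCf : Finite C := inferInstance
    have h1 : IsPGroup 2 (P'.subgroupOf C) := hP'.comap_subtype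
    have h2 : IsPGroup 2 ((img φ P).subgroupOf C) := (T.isPGroup'.to_le img_le).comap_subtype
    obtain ⟨R', hR'⟩ := h1.exists_le_sylow
    obtain ⟨R, hR⟩ := h2.exists_le_sylow
    have hRe : (R : Subgroup C) = (img φ P).subgroupOf C := by
      symm
      apply eq_of_le_of_card_ge hR
      have h3 := hmax' ((R : Subgroup C).map C.subtype) (R.isPGroup'.map _) (map_subtype_le _)
      rw [card_map_of_injective C.subtype_injective] at h3
      rw [Nat.card_congr (subgroupOfEquivOfLe hPimg).toEquiv]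
      exact h3
    obtain ⟨d, hd⟩ := MulAction.exists_smul_eq C R' R
    -- `d` moves `P'` into `img φ P`
    have hdP : ∀ w ∈ P', (d : H) * w * (d : H)⁻¹ ∈ img φ P := by
      intro w hw
      have h3 : (⟨w, hPz' hw⟩ : C) ∈ (R' : Subgroup C) := hR' hw
      have h4 : d * ⟨w, hPz' hw⟩ * d⁻¹ ∈ (R : Subgroup C) := by
        rw [← hd]
        exact ⟨_, h3, rfl⟩
      rw [hRe] at h4
      exact h4
    -- `d` normalises `img φ Q`
    have key : ∀ (w : (S : Subgroup G)) (e : H), (w : G) ∈ Q → e ∈ C → e * φ w * e⁻¹ ∈ img φ P →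
        e * φ w * e⁻¹ ∈ img φ Q := by
      intro w e hw he hew
      obtain ⟨v, hv, hve⟩ := mem_img.1 hew
      obtain ⟨g, hg⟩ := (h.fam (ι := Bool) (fun b => if b then w else z) (fun b => if b then v else z)).2 ⟨e, by
        intro b
        cases b
        · show (φ z : H) = e * φ z * e⁻¹
          have := mem_centralizer_singleton_iff.1 he
          rw [this, mul_inv_cancel_right]
        · exact hve⟩
      have hgz : (z : G) = g * z * g⁻¹ := hg false
      have hgw : (v : G) = g * w * g⁻¹ := hg true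
      have hgc : g ∈ centralizer ({(z : G)} : Set G) := by
        rw [mem_centralizer_singleton_iff]
        calc g * z = g * z * g⁻¹ * g := by group
          _ = z * g := by rw [← hgz]
      have h5 := hQ.closed P hP hQP hPz w hw g hgc (by rw [← hgw]; exact hv)
      rw [← hgw] at h5
      rw [← hve]
      exact apply_mem_img.2 h5
    have hdQ : ∀ w ∈ img φ Q, (d : H) * w * (d : H)⁻¹ ∈ img φ Q := by
      intro w hw
      obtain ⟨v, hv, rfl⟩ := mem_img.1 hw
      exact key v d hv d.2 (hdP _ (hQP' hw))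
    have hdQ' : (img φ Q).map (MulAut.conj (d : H)).toMonoidHom = img φ Q := by
      apply eq_of_le_of_card_ge
      · rintro _ ⟨w, hw, rfl⟩
        exact hdQ w hw
      · rw [card_map_of_injective (MulAut.conj (d : H)).injective]
    have h6 : ((d : H) * c) * φ x * ((d : H) * c)⁻¹ ∈ img φ P := by
      have := hdP _ hcy
      have e1 : (d : H) * (c * φ x * c⁻¹) * (d : H)⁻¹ = ((d : H) * c) * φ x * ((d : H) * c)⁻¹ := by group
      rwa [e1] at this
    have h7 := key x ((d : H) * c) hx (mul_mem d.2 hc) h6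
    rw [← hdQ'] at h7
    obtain ⟨w, hw, hwe⟩ := h7
    have hwe' : (d : H) * w * (d : H)⁻¹ = ((d : H) * c) * φ x * ((d : H) * c)⁻¹ := hwe
    have : w = c * φ x * c⁻¹ := by
      calc w = (d : H)⁻¹ * ((d : H) * w * (d : H)⁻¹) * d := by group
        _ = (d : H)⁻¹ * (((d : H) * c) * φ x * ((d : H) * c)⁻¹) * d := by rw [hwe']
        _ = c * φ x * c⁻¹ := by group
    rw [← this]
    exact hw

/-- **The transport**: the image of a good quaternion subgroup is good. -/
theorem SameFus.good (h : SameFus (S : Subgroup G) (T : Subgroup H) φ) {Q : Subgroup G} {z : (S : Subgroup G)}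
    (hQS : Q ≤ (S : Subgroup G)) (hQ : Good Q (z : G)) : Good (img φ Q) (φ z : H) := by
  have hp : Fact (Nat.Prime 2) := ⟨Nat.prime_two⟩
  let C : Subgroup G := centralizer {(z : G)}
  have h1 : IsPGroup 2 (Q.subgroupOf C) := hQ.isPGroup.comap_subtype
  obtain ⟨R, hR⟩ := h1.exists_le_sylow
  let P : Subgroup G := (R : Subgroup C).map C.subtype
  have hP : IsPGroup 2 P := R.isPGroup'.map _
  have hPz : P ≤ C := map_subtype_le _
  have hQP : Q ≤ P := by
    intro x hx
    exact ⟨⟨x, hQ.le hx⟩, hR hx, rfl⟩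
  have hmax : ∀ P' : Subgroup G, IsPGroup 2 P' → P' ≤ C → Nat.card P' ≤ Nat.card P := by
    intro P' hP' hPC
    obtain ⟨R', hR'⟩ := (hP'.comap_subtype : IsPGroup 2 (P'.subgroupOf C)).exists_le_sylow
    calc Nat.card P' = Nat.card (P'.subgroupOf C) := (Nat.card_congr (subgroupOfEquivOfLe hPC).toEquiv).symm
      _ ≤ Nat.card (R' : Subgroup C) := card_le_of_le hR'
      _ = Nat.card (R : Subgroup C) := by rw [R'.card_eq_multiplicity, R.card_eq_multiplicity]
      _ = Nat.card P := (card_map_of_injective C.subtype_injective).symm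
  obtain ⟨g, hg⟩ := exists_conj_le S hP
  let z1 : (S : Subgroup G) := ⟨g * z * g⁻¹, hg z (hQP hQ.mem)⟩
  have hcz : ∀ x : G, x ∈ centralizer ({(z : G)} : Set G) ↔ g * x * g⁻¹ ∈ centralizer ({(z1 : G)} : Set G) := by
    intro x
    rw [mem_centralizer_singleton_iff, mem_centralizer_singleton_iff]
    show _ ↔ g * x * g⁻¹ * (g * z * g⁻¹) = g * z * g⁻¹ * (g * x * g⁻¹)
    constructor
    · intro h1
      calc g * x * g⁻¹ * (g * z * g⁻¹) = g * (x * z) * g⁻¹ := by group
        _ = g * (z * x) * g⁻¹ := by rw [h1]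
        _ = g * z * g⁻¹ * (g * x * g⁻¹) := by group
    · intro h1
      calc x * z = g⁻¹ * (g * x * g⁻¹ * (g * z * g⁻¹)) * g := by group
        _ = g⁻¹ * (g * z * g⁻¹ * (g * x * g⁻¹)) * g := by rw [h1]
        _ = z * x := by group
  have hG1 : Good (Q.map (MulAut.conj g).toMonoidHom) (z1 : G) := hQ.conj g
  have hPg : P.map (MulAut.conj g).toMonoidHom ≤ (S : Subgroup G) := by
    rintro _ ⟨x, hx, rfl⟩
    exact hg x hx
  have h2 := h.good_aux hG1 (P := P.map (MulAut.conj g).toMonoidHom) (hP.map _) (by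
      rintro _ ⟨x, hx, rfl⟩
      exact (hcz x).1 (hPz hx)) (map_mono hQP) hPg (by
      intro P' hP' hPz'
      have h3 := hmax (P'.map (MulAut.conj g⁻¹).toMonoidHom) (hP'.map _) (by
        rintro _ ⟨x, hx, rfl⟩
        show (g⁻¹ * x * g⁻¹⁻¹) ∈ centralizer ({(z : G)} : Set G)
        rw [hcz]
        have : g * (g⁻¹ * x * g⁻¹⁻¹) * g⁻¹ = x := by group
        rw [this]
        exact hPz' hx)
      rw [card_map_of_injective (MulAut.conj g⁻¹).injective] at h3
      rw [card_map_of_injective (MulAut.conj g).injective]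
      exact h3)
  -- back
  obtain ⟨k, hk⟩ := (h.fam (ι := Q) (fun x => ⟨x, hQS x.2⟩) (fun x => ⟨g * x * g⁻¹, hg x (hQP x.2)⟩)).1
    ⟨g, fun x => rfl⟩
  have hkz : (φ z1 : H) = k * φ z * k⁻¹ := hk ⟨z, hQ.mem⟩
  have h3 := h2.conj k⁻¹
  have e1 : k⁻¹ * (φ z1 : H) * k⁻¹⁻¹ = φ z := by
    rw [hkz]
    group
  have e2 : (img φ (Q.map (MulAut.conj g).toMonoidHom)).map (MulAut.conj k⁻¹).toMonoidHom = img φ Q := by
    ext y
    constructor
    · rintro ⟨w, hw, rfl⟩
      obtain ⟨x, ⟨v, hv, hvx⟩, rfl⟩ := mem_img.1 hw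
      have hvx' : g * v * g⁻¹ = (x : G) := hvx
      have h4 : (φ ⟨g * v * g⁻¹, hg v (hQP hv)⟩ : H) = k * φ ⟨v, hQS hv⟩ * k⁻¹ := hk ⟨v, hv⟩
      have h5 : (⟨g * v * g⁻¹, hg v (hQP hv)⟩ : (S : Subgroup G)) = x := Subtype.ext hvx'
      rw [h5] at h4
      show k⁻¹ * (φ x : H) * k⁻¹⁻¹ ∈ img φ Q
      rw [h4]
      have e3 : k⁻¹ * (k * (φ ⟨v, hQS hv⟩ : H) * k⁻¹) * k⁻¹⁻¹ = φ ⟨v, hQS hv⟩ := by group
      rw [e3]
      exact apply_mem_img.2 hv
    · intro hy
      obtain ⟨x, hx, rfl⟩ := mem_img.1 hy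
      refine ⟨φ ⟨g * x * g⁻¹, hg x (hQP hx)⟩, apply_mem_img.2 ⟨x, hx, rfl⟩, ?_⟩
      have h4 : (φ ⟨g * x * g⁻¹, hg x (hQP hx)⟩ : H) = k * φ x * k⁻¹ := hk ⟨x, hx⟩
      show k⁻¹ * (φ ⟨g * x * g⁻¹, hg x (hQP hx)⟩ : H) * k⁻¹⁻¹ = φ x
      rw [h4]
      group
  rw [e1, e2] at h3
  exact h3

end Transport

end Cfsg.Agent.H751.Big
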