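import Cfsg.Agent.H751.Assemble
import Cfsg.Agent.H751.Big.Dat2
import Cfsg.Agent.H751.Big.LowExc
import Cfsg.Agent.H751.Big.SameFus
import Cfsg.Prelude.Def_LieTypeChar

/-!
# S5173: the assembly (helper751)
-/

set_option autoImplicit false
set_option linter.unusedVariables false

namespace Cfsg.Agent.H751.Big

open Subgroup Cfsg Cfsg.Agent.H751

theorem odd_card_of_charP {K : Type*} [Field K] [Fintype K] {p : ℕ} [CharP K p] (hp : p.Prime) (h2 : p ≠ 2) :
    Odd (Fintype.card K) := by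
  have : Fact p.Prime := ⟨hp⟩
  obtain ⟨n, -, hn⟩ := FiniteField.card K p
  rw [hn]
  exact (hp.odd_of_ne_two h2).pow

theorem odd_of_pow {a k n : ℕ} (h : Odd n) (he : n = a ^ k) (hk : k ≠ 0) : Odd a := by
  subst he
  rcases Nat.even_or_odd a with h1 | h1
  · exact absurd h (Nat.not_odd_iff_even.2 (h1.pow_of_ne_zero hk))
  · exact h1

/-- Transport of a Sylow subgroup through an isomorphism of the group. -/
theorem exists_sylow_equiv {G X : Type*} [Group G] [Finite G] [Group X] (S : Sylow 2 G) (g : G ≃* X) :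
    ∃ P : Sylow 2 X, Nonempty ((S : Subgroup G) ≃* (P : Subgroup X)) := by
  have hs : Function.Surjective g.toMonoidHom := g.surjective
  have hi : Function.Injective g.toMonoidHom := g.injective
  exact ⟨S.mapSurjective hs, ⟨(S : Subgroup G).equivMapOfInjective _ hi⟩⟩

/-- **The assembly.** -/
theorem asm {G : Type*} [Group G] [Finite G] [IsSimpleGroup G] (S : Sylow 2 G) (n : ℕ) (hn : 6 ≤ n)
    {F : Type*} [Field F] [Fintype F] (q : ℕ) (hFq : Fintype.card F = q) (hq : Odd q)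
    (step1 : ∀ (T : Sylow 2 (Matrix.ProjectiveSpecialLinearGroup (Fin n) F))
      (φ : (S : Subgroup G) ≃* (T : Subgroup (Matrix.ProjectiveSpecialLinearGroup (Fin n) F))),
      SameFus (S : Subgroup G) (T : Subgroup (Matrix.ProjectiveSpecialLinearGroup (Fin n) F)) φ →
      ∃ p : ℕ, p.Prime ∧ p ≠ 2 ∧ IsLieTypeChar p G)
    (hsp : ∀ (T : Sylow 2 (Matrix.ProjectiveSpecialLinearGroup (Fin n) F)) (K : Type) [Field K] [Fintype K] (m : ℕ),
      2 ≤ m → Odd (Fintype.card K) → ∀ P : Sylow 2 (PSp m K),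
      Nonempty ((T : Subgroup (Matrix.ProjectiveSpecialLinearGroup (Fin n) F)) ≃* (P : Subgroup (PSp m K))) → False)
    (hodd : ∀ (T : Sylow 2 (Matrix.ProjectiveSpecialLinearGroup (Fin n) F)) (K : Type) [Field K] [Fintype K] (m : ℕ),
      3 ≤ m → Odd (Fintype.card K) → ∀ P : Sylow 2 (POmega K (quadFormOdd m K)),
      Nonempty ((T : Subgroup (Matrix.ProjectiveSpecialLinearGroup (Fin n) F)) ≃*
        (P : Subgroup (POmega K (quadFormOdd m K)))) → False)
    (hplus : ∀ (T : Sylow 2 (Matrix.ProjectiveSpecialLinearGroup (Fin n) F)) (K : Type) [Field K] [Fintype K] (m : ℕ),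
      4 ≤ m → Odd (Fintype.card K) → ∀ P : Sylow 2 (POmega K (quadFormPlus m K)),
      Nonempty ((T : Subgroup (Matrix.ProjectiveSpecialLinearGroup (Fin n) F)) ≃*
        (P : Subgroup (POmega K (quadFormPlus m K)))) → False)
    (hminus : ∀ (T : Sylow 2 (Matrix.ProjectiveSpecialLinearGroup (Fin n) F)) (K : Type) [Field K] [Fintype K] (m : ℕ)
      (a b : K), 4 ≤ m → (∀ z₁ z₂ : K, z₁ ^ 2 + a * z₁ * z₂ + b * z₂ ^ 2 = 0 → z₁ = 0 ∧ z₂ = 0) →
      Odd (Fintype.card K) → ∀ P : Sylow 2 (POmega K (quadFormMinus (m - 1) K a b)),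
      Nonempty ((T : Subgroup (Matrix.ProjectiveSpecialLinearGroup (Fin n) F)) ≃*
        (P : Subgroup (POmega K (quadFormMinus (m - 1) K a b)))) → False)
    (hexc : ∀ (T : Sylow 2 (Matrix.ProjectiveSpecialLinearGroup (Fin n) F))
      (φ : (S : Subgroup G) ≃* (T : Subgroup (Matrix.ProjectiveSpecialLinearGroup (Fin n) F))),
      SameFus (S : Subgroup G) (T : Subgroup (Matrix.ProjectiveSpecialLinearGroup (Fin n) F)) φ →
      ∀ (K : Type) [Field K] [Fintype K], Odd (Fintype.card K) →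
      (Nonempty (G ≃* Lie.chevF4.group K) ∨ Nonempty (G ≃* Lie.chevE6.group K) ∨ Nonempty (G ≃* Lie.chevE7.group K) ∨
        Nonempty (G ≃* Lie.chevE8.group K)) → False)
    (htw : ∀ (T : Sylow 2 (Matrix.ProjectiveSpecialLinearGroup (Fin n) F))
      (φ : (S : Subgroup G) ≃* (T : Subgroup (Matrix.ProjectiveSpecialLinearGroup (Fin n) F))),
      SameFus (S : Subgroup G) (T : Subgroup (Matrix.ProjectiveSpecialLinearGroup (Fin n) F)) φ →
      ∀ (K : Type) [Field K] [Fintype K] (r : ℕ), IsPrimePow r → Odd r → Fintype.card K = r ^ 2 →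
      Nonempty (G ≃* Lie.twistedE6 K r) → False) :
    (∃ ι : ↥(S : Subgroup G) →* Matrix.ProjectiveSpecialLinearGroup (Fin n) F,
      (Cfsg.groupFusionSystem (S : Subgroup G)).IsRealizedBy ι ∧
      ∃ T : Sylow 2 (Matrix.ProjectiveSpecialLinearGroup (Fin n) F),
        (T : Subgroup (Matrix.ProjectiveSpecialLinearGroup (Fin n) F)) = ι.range) ↔
    ((∃ (F' : Type) (_ : Field F') (_ : Fintype F') (q' : ℕ), Fintype.card F' = q' ∧ Odd q' ∧
        padicValNat 2 (q' - 1) = padicValNat 2 (q - 1) ∧ padicValNat 2 (q' + 1) = padicValNat 2 (q + 1) ∧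
        Nonempty (G ≃* Matrix.ProjectiveSpecialLinearGroup (Fin n) F')) ∨
      (∃ (F' : Type) (_ : Field F') (_ : Fintype F') (q' : ℕ), Fintype.card F' = q' ^ 2 ∧ Odd q' ∧
        padicValNat 2 (q' + 1) = padicValNat 2 (q - 1) ∧ padicValNat 2 (q' - 1) = padicValNat 2 (q + 1) ∧
        Nonempty (G ≃* Cfsg.PSU n F' q'))) := by
  have hp2 : Fact (Nat.Prime 2) := ⟨Nat.prime_two⟩
  constructor
  · rintro ⟨ι, hι, T, hT⟩
    obtain ⟨φ, -, hφ⟩ := exists_sameFus hι hT
    obtain ⟨p, hp, h2, hL⟩ := step1 T φ hφ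
    rcases hL with h | h | h | h | h | h | h | h | h | h | h
    · -- PSL
      obtain ⟨K, _, _, _, k, hk, hk2, ⟨g⟩⟩ := h
      have hK : Odd (Fintype.card K) := odd_card_of_charP hp h2
      obtain ⟨P, ⟨e⟩⟩ := exists_sylow_equiv S g
      obtain ⟨e1, e2, e3⟩ := H763.Psa.psl_psl hn hk hFq rfl hq hK T P (φ.symm.trans e)
      subst e1
      exact Or.inl ⟨K, _, _, _, rfl, hK, e2, e3, ⟨g⟩⟩
    · -- PSp
      obtain ⟨K, _, _, _, k, hk, hk2, ⟨g⟩⟩ := h
      have hK : Odd (Fintype.card K) := odd_card_of_charP hp h2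
      obtain ⟨P, ⟨e⟩⟩ := exists_sylow_equiv S g
      exact (hsp T K k hk hK P ⟨φ.symm.trans e⟩).elim
    · -- PSU
      obtain ⟨K, _, _, _, k, r, hr, hk, hk2, ⟨g⟩⟩ := h
      have hK : Odd (Fintype.card K) := odd_card_of_charP hp h2
      obtain ⟨P, ⟨e⟩⟩ := exists_sylow_equiv S g
      obtain ⟨e1, e2, e3⟩ := H763.Psa.psl_psu hn hk hFq hr hq (two_ne_zero_of_odd hK) T P (φ.symm.trans e)
      subst e1
      exact Or.inr ⟨K, _, _, r, hr, odd_of_pow hK hr (by norm_num), e2, e3, ⟨g⟩⟩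
    · -- orthogonal, odd dimension
      obtain ⟨K, _, _, _, k, hk, hK, ⟨g⟩⟩ := h
      obtain ⟨P, ⟨e⟩⟩ := exists_sylow_equiv S g
      exact (hodd T K k hk hK P ⟨φ.symm.trans e⟩).elim
    · obtain ⟨K, _, _, _, k, hk, ⟨g⟩⟩ := h
      have hK : Odd (Fintype.card K) := odd_card_of_charP hp h2
      obtain ⟨P, ⟨e⟩⟩ := exists_sylow_equiv S g
      exact (hplus T K k hk hK P ⟨φ.symm.trans e⟩).elim
    · obtain ⟨K, _, _, _, k, a, b, hk, hab, ⟨g⟩⟩ := h
      have hK : Odd (Fintype.card K) := odd_card_of_charP hp h2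
      obtain ⟨P, ⟨e⟩⟩ := exists_sylow_equiv S g
      exact (hminus T K k a b hk hab hK P ⟨φ.symm.trans e⟩).elim
    · obtain ⟨K, _, _, _, h⟩ := h
      have hK : Odd (Fintype.card K) := odd_card_of_charP hp h2
      rcases h with ⟨-, ⟨g⟩⟩ | h
      · obtain ⟨P, ⟨e⟩⟩ := exists_sylow_equiv S g
        subst hFq
        exact (not_G2 hn hq T hK P (φ.symm.trans e)).elim
      · exact (hexc T φ hφ K hK h).elim
    · obtain ⟨K, _, _, _, r, hr, h⟩ := h
      have hK : Odd (Fintype.card K) := odd_card_of_charP hp h2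
      rcases h with ⟨hr2, g⟩ | ⟨hr3, ⟨g⟩⟩
      · exact (htw T φ hφ K r hr (odd_of_pow hK hr2 (by norm_num)) hr2 g).elim
      · obtain ⟨P, ⟨e⟩⟩ := exists_sylow_equiv S g
        subst hFq
        exact (not_3D4 hn hq T (odd_of_pow hK hr3 (by norm_num)) hr3 P (φ.symm.trans e)).elim
    · exact (h2 h.1).elim
    · exact (h2 h.1).elim
    · obtain ⟨-, K, _, _, m, hm, hK, ⟨g⟩⟩ := h
      obtain ⟨P, ⟨e⟩⟩ := exists_sylow_equiv S g
      subst hFq
      exact (not_2G2 hn hq T hK P (φ.symm.trans e)).elim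
  · subst hFq
    rintro (⟨F', _, _, q', rfl, hq', h1, h2, ⟨g⟩⟩ | ⟨F', _, _, q', hF', hq', h1, h2, ⟨g⟩⟩)
    · exact fusTo_lin_lin2 (by omega) hq hq' h1 h2 g S
    · exact fusTo_uni_lin2 (by omega) hq hF' hq' h1 h2 g S

end Cfsg.Agent.H751.Big
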