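import Cfsg.Agent.H751.Big.Asm
import Cfsg.Agent.H763.PsaRows

/-!
# S5173: the assembly, second part (helper751): the classical rows by helper763's `PsaRows`
-/

set_option autoImplicit false
set_option linter.unusedVariables false

namespace Cfsg.Agent.H751.Big

open Subgroup Cfsg Cfsg.Agent.H751

/-- **The assembly, classical rows done.** -/
theorem asmB {G : Type*} [Group G] [Finite G] [IsSimpleGroup G] (S : Sylow 2 G) (n : ℕ) (hn : 6 ≤ n)
    {F : Type*} [Field F] [Fintype F] (q : ℕ) (hFq : Fintype.card F = q) (hq : Odd q)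
    (step1 : ∀ (T : Sylow 2 (Matrix.ProjectiveSpecialLinearGroup (Fin n) F))
      (φ : (S : Subgroup G) ≃* (T : Subgroup (Matrix.ProjectiveSpecialLinearGroup (Fin n) F))),
      SameFus (S : Subgroup G) (T : Subgroup (Matrix.ProjectiveSpecialLinearGroup (Fin n) F)) φ →
      ∃ p : ℕ, p.Prime ∧ p ≠ 2 ∧ IsLieTypeChar p G)
    (hexc : ∀ (T : Sylow 2 (Matrix.ProjectiveSpecialLinearGroup (Fin n) F))
      (φ : (S : Subgroup G) ≃* (T : Subgroup (Matrix.ProjectiveSpecialLinearGroup (Fin n) F))),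
      SameFus (S : Subgroup G) (T : Subgroup (Matrix.ProjectiveSpecialLinearGroup (Fin n) F)) φ →
      ∀ (K : Type) [Field K] [Fintype K], Odd (Fintype.card K) →
      (Nonempty (G ≃* Lie.chevF4.group K) ∨ Nonempty (G ≃* Lie.chevE6.group K) ∨ Nonempty (G ≃* Lie.chevE7.group K) ∨
        Nonempty (G ≃* Lie.chevE8.group K)) → False)
    (htw : ∀ (T : Sylow 2 (Matrix.ProjectiveSpecialLinearGroup (Fin n) F))
      (φ : (S : Subgroup G) ≃* (T : Subgroup (Matrix.ProjectiveSpecialLinearGroup (Fin n) F))),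
      SameFus (S : Subgroup G) (T : Subgroup (Matrix.ProjectiveSpecialLinearGroup (Fin n) F)) φ →
      ∀ (K : Type) [Field K] [Fintype K] (r : ℕ), IsPrimePow r → Odd r → Fintype.card K = r ^ 2 →
      Nonempty (G ≃* Lie.twistedE6 K r) → False) :
    (∃ ι : ↥(S : Subgroup G) →* Matrix.ProjectiveSpecialLinearGroup (Fin n) F,
      (Cfsg.groupFusionSystem (S : Subgroup G)).IsRealizedBy ι ∧
      ∃ T : Sylow 2 (Matrix.ProjectiveSpecialLinearGroup (Fin n) F),
        (T : Subgroup (Matrix.ProjectiveSpecialLinearGroup (Fin n) F)) = ι.range) ↔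
    ((∃ (F' : Type) (_ : Field F') (_ : Fintype F') (q' : ℕ), Fintype.card F' = q' ∧ Odd q' ∧
        padicValNat 2 (q' - 1) = padicValNat 2 (q - 1) ∧ padicValNat 2 (q' + 1) = padicValNat 2 (q + 1) ∧
        Nonempty (G ≃* Matrix.ProjectiveSpecialLinearGroup (Fin n) F')) ∨
      (∃ (F' : Type) (_ : Field F') (_ : Fintype F') (q' : ℕ), Fintype.card F' = q' ^ 2 ∧ Odd q' ∧
        padicValNat 2 (q' + 1) = padicValNat 2 (q - 1) ∧ padicValNat 2 (q' - 1) = padicValNat 2 (q + 1) ∧
        Nonempty (G ≃* Cfsg.PSU n F' q'))) := by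
  have hq' : Odd (Fintype.card F) := by rw [hFq]; exact hq
  refine asm S n hn q hFq hq step1 ?_ ?_ ?_ ?_ hexc htw
  · rintro T K _ _ m hm hK P ⟨e⟩
    exact (H763.Psa.par_psl (by omega) hq' T).not_psp hn hK hm P e
  · rintro T K _ _ m hm hK P ⟨e⟩
    exact (H763.Psa.par_psl (by omega) hq' T).not_odd hn hK hm P e
  · rintro T K _ _ m hm hK P ⟨e⟩
    exact (H763.Psa.par_psl (by omega) hq' T).not_plus hn hK hm P e
  · rintro T K _ _ m a b hm hab hK P ⟨e⟩
    exact (H763.Psa.par_psl (by omega) hq' T).not_minus hn hK hm a b hab P e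

end Cfsg.Agent.H751.Big
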