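import Cfsg.Agent.H751.Pack

/-!
# Fusion in normal subgroups of 2-power index modulo a supplement centralizing the Sylow subgroup (helper751)
-/

set_option autoImplicit false

namespace Cfsg.Agent.H751.Big

open Cfsg Cfsg.FusionSystem Cfsg.Agent.H751

section Odd

variable {S G : Type*} [Group S] [Group G]

/-- Automorphisms of odd order are induced by the normal subgroup. -/
theorem exists_mem_of_coprime [Finite G] {p : ℕ} [Fact p.Prime] {τ : S →* G} {N : Subgroup G}
    (hodd : ∀ g : G, Nat.Coprime (orderOf g) p → ∃ c, (∀ s, Commute c (τ s)) ∧ g * c ∈ N) {P : Subgroup S} {α : MulAut P}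
    {g : G} (hg : ∀ x : P, τ (α x : P) = g * τ x * g⁻¹) (ho : Nat.Coprime (orderOf α) p) :
    ∃ k ∈ N, ∀ x : P, τ (α x : P) = k * τ x * k⁻¹ := by
  obtain ⟨k, hk⟩ := Cfsg.Agent.Transfer.Residual.exists_pow_prime_pow_coprime p g
  have hpow : ∀ (n : ℕ) (x : P), τ ((α ^ n) x : P) = g ^ n * τ x * (g ^ n)⁻¹ := by
    intro n
    induction n with
    | zero => intro x; simp
    | succ n ih =>
      intro x
      rw [pow_succ, MulAut.mul_apply, ih, hg, pow_succ]
      group
  have hcop : Nat.Coprime (orderOf α) (p ^ k) := ho.pow_right k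
  obtain ⟨m, hm⟩ := exists_pow_eq_self_of_coprime hcop.symm
  have h1 : Nat.Coprime (orderOf ((g ^ p ^ k) ^ m)) p := Nat.Coprime.coprime_dvd_left (orderOf_pow_dvd m) hk
  obtain ⟨c, hc, hcN⟩ := hodd _ h1
  refine ⟨(g ^ p ^ k) ^ m * c, hcN, fun x => ?_⟩
  have h2 := hpow (p ^ k * m) x
  rw [pow_mul, hm] at h2
  have h3 : c * τ x = τ x * c := (hc x).eq
  rw [h2, pow_mul, mul_assoc _ c, h3]
  group

/-- The fusion of a normal subgroup of `p`-power index modulo the centre, as a subsystem of `p`-power index. -/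
theorem hasPPowerIndexIn [Finite G] {p : ℕ} [Fact p.Prime] {τ : S →* G} (hτ : Function.Injective τ) {N : Subgroup G}
    [N.Normal] {T : Subgroup S} (hT : ∀ s, s ∈ T ↔ τ s ∈ N)
    (hodd : ∀ g : G, Nat.Coprime (orderOf g) p → ∃ c, (∀ s, Commute c (τ s)) ∧ g * c ∈ N) :
    (H781.pullback (res τ T N (fun s hs => (hT s).1 hs)) (res_injective hτ T N _)).HasPPowerIndexIn
      (H781.pullback (topHom τ) (topHom_injective hτ)) p := by
  have hmem : ∀ (P : Subgroup S) (α : MulAut P), α ∈ (H781.pullback (topHom τ) (topHom_injective hτ)).autGroup P ↔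
      ∃ g : G, ∀ x : P, τ (α x : P) = g * τ x * g⁻¹ := by
    intro P α
    rw [H802.mem_autGroup_iff _ le_top]
    constructor
    · rintro ⟨_, _, g, hg⟩
      exact ⟨g, hg⟩
    · rintro ⟨g, hg⟩
      exact ⟨le_top, fun _ => trivial, g, hg⟩
  let A : ∀ P : Subgroup S, Subgroup (MulAut P) := fun P =>
    { carrier := {α | ∃ k ∈ N, ∀ x : P, τ (α x : P) = k * τ x * k⁻¹}
      mul_mem' := by
        rintro α β ⟨k, hk, hα⟩ ⟨l, hl, hβ⟩
        refine ⟨k * l, N.mul_mem hk hl, fun x => ?_⟩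
        rw [MulAut.mul_apply, hα, hβ]
        group
      one_mem' := ⟨1, N.one_mem, fun x => by simp⟩
      inv_mem' := by
        rintro α ⟨k, hk, hα⟩
        refine ⟨k⁻¹, N.inv_mem hk, fun x => ?_⟩
        have h1 := hα (α⁻¹ x)
        rw [← MulAut.mul_apply, mul_inv_cancel, MulAut.one_apply] at h1
        rw [h1]
        group }
  have hA : ∀ P : Subgroup S, (pResidual p ((H781.pullback (topHom τ) (topHom_injective hτ)).autGroup P)).map
      ((H781.pullback (topHom τ) (topHom_injective hτ)).autGroup P).subtype ≤ A P := by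
    intro P
    rw [Cfsg.Agent.Transfer.Residual.pResidual_def, MonoidHom.map_closure, Subgroup.closure_le]
    rintro _ ⟨α, hα, rfl⟩
    obtain ⟨g, hg⟩ := (hmem P α).1 α.2
    have ho : Nat.Coprime (orderOf (α : MulAut P)) p := by rw [Subgroup.orderOf_coe]; exact hα
    exact exists_mem_of_coprime hodd hg ho
  refine ⟨?_, ?_, ?_⟩
  · intro P φ hφ'
    obtain ⟨hP, hφ, g, hg⟩ := hφ'
    exact ⟨le_top, fun _ => trivial, g, fun x => congrArg Subtype.val (hg x)⟩
  · unfold hyperfocalSubgroup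
    rw [Subgroup.closure_le]
    rintro _ ⟨P, α, x, -, hα, rfl⟩
    obtain ⟨k, hk, hk'⟩ := hA P ⟨α, hα, rfl⟩
    have h6 : τ (((α : MulAut P) x : P) : S) = k * τ x * k⁻¹ := hk' x
    rw [SetLike.mem_coe, hT, map_mul, map_inv, h6]
    have h5 : (τ x)⁻¹ * (k * τ x * k⁻¹) = ((τ x)⁻¹ * k * (τ x)⁻¹⁻¹) * k⁻¹ := by group
    rw [h5]
    exact N.mul_mem (Subgroup.Normal.conj_mem inferInstance k hk _) (N.inv_mem hk)
  · intro P hP
    refine (hA P).trans ?_
    rintro α ⟨k, hk, hk'⟩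
    rw [H802.mem_autGroup_iff _ hP]
    exact ⟨hP, fun x => hP (α x).2, ⟨k, hk⟩, fun x => Subtype.ext (hk' x)⟩

variable {H : Type*} [Group H]

/-- **Comparison** of the fusion in normal subgroups. -/
theorem res_of_odd [Finite S] [Finite G] [Finite H] {p : ℕ} [Fact p.Prime] {τ : S →* G} {τ' : S →* H}
    (hS : IsPGroup p S) (hτ : Function.Injective τ) (hτ' : Function.Injective τ') (h : SubFus τ τ')
    (h' : SubFus τ' τ) {T : Subgroup S} {N : Subgroup G} [N.Normal] {N' : Subgroup H} [N'.Normal]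
    (hN : ∀ s, s ∈ T ↔ τ s ∈ N) (hN' : ∀ s, s ∈ T ↔ τ' s ∈ N')
    (hodd : ∀ g : G, Nat.Coprime (orderOf g) p → ∃ c, (∀ s, Commute c (τ s)) ∧ g * c ∈ N)
    (hodd' : ∀ g : H, Nat.Coprime (orderOf g) p → ∃ c, (∀ s, Commute c (τ' s)) ∧ g * c ∈ N')
    (hR : IsSyl p (res τ T N (fun s hs => (hN s).1 hs))) (hR' : IsSyl p (res τ' T N' (fun s hs => (hN' s).1 hs))) :
    SubFus (res τ T N (fun s hs => (hN s).1 hs)) (res τ' T N' (fun s hs => (hN' s).1 hs)) := by
  have hF : H781.pullback (topHom τ) (topHom_injective hτ) = H781.pullback (topHom τ') (topHom_injective hτ') := by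
    refine H802.fusionSystem_ext (fun P => ?_)
    exact Set.Subset.antisymm (fun φ hφ => SubFus.mem_pullback hτ hτ' h hφ)
      (fun φ hφ => SubFus.mem_pullback hτ' hτ h' hφ)
  have h1 := hasPPowerIndexIn hτ hN hodd
  have h2 := hasPPowerIndexIn hτ' hN' hodd'
  rw [← hF] at h2
  obtain ⟨hRi, R, hR⟩ := hR
  obtain ⟨hRi', R', hR'⟩ := hR'
  have hs1 := H781.isSaturated_of_isRealizedBy (H781.pullback_isRealizedBy _ hRi) R hR
  have hs2 := H781.isSaturated_of_isRealizedBy (H781.pullback_isRealizedBy _ hRi') R' hR'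
  have hT : IsPGroup p T := hS.to_subgroup T
  have hE := fun P => H755.hom_eq_of_pPowerIndex hT hs1 hs2 h1 h2 P
  intro P f g hg
  have hinj : ∀ s t : T, s ∈ P → t ∈ P → f (s * t) = f s * f t := by
    intro s t hs ht
    apply hRi
    rw [map_mul, hg _ (P.mul_mem hs ht), hg _ hs, hg _ ht, map_mul]
    group
  let P' : Subgroup S := P.map T.subtype
  have hP' : ∀ x : P', ∃ hx : (x : S) ∈ T, (⟨x, hx⟩ : T) ∈ P := by
    rintro ⟨_, x, hx, rfl⟩
    exact ⟨x.2, hx⟩
  let φ : P' →* S :=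
    { toFun := fun x => (f ⟨x, (hP' x).choose⟩ : S)
      map_one' := by
        have h3 : (⟨(1 : P'), (hP' 1).choose⟩ : T) = 1 := rfl
        rw [h3]
        have h4 := hinj 1 1 P.one_mem P.one_mem
        rw [mul_one] at h4
        rw [left_eq_mul.1 h4]
        rfl
      map_mul' := fun x y => by
        have h3 := hinj ⟨x, (hP' x).choose⟩ ⟨y, (hP' y).choose⟩ (hP' x).choose_spec (hP' y).choose_spec
        exact congrArg Subtype.val h3 }
  have hφ : φ ∈ (H781.pullback (res τ T N (fun s hs => (hN s).1 hs)) hRi).Hom P' := by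
    refine ⟨fun x hx => (hP' ⟨x, hx⟩).choose, fun x => (f ⟨x, (hP' x).choose⟩).2, g, fun x => ?_⟩
    exact hg ⟨x, (hP' x).choose⟩ (hP' x).choose_spec
  rw [hE] at hφ
  obtain ⟨_, _, k, hk⟩ := hφ
  refine ⟨k, fun x hx => ?_⟩
  exact hk ⟨x, x, hx, rfl⟩

end Odd

end Cfsg.Agent.H751.Big
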